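import Cfsg.Agent.Lib.SU3Pres.Model

/-!
Recognising the stabiliser of an isotropic line of `SU₃(q)` from relations between a root element and a
torus element.
-/

set_option autoImplicit false
set_option linter.unusedSectionVars false
set_option linter.style.haveILetI false

namespace Cfsg.Agent.SU3Pres

open Hermitian PSU3Index SL2Pres Polynomial
open scoped commutatorElement

variable {F : Type*} [Field F] [Fintype F] {q : ℕ} (C : Ctx F q) {G : Type*} [Group G]

theorem charP_fixed {p : ℕ} [CharP F p] : CharP (fixed C.σ) p :=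
  RingHom.charP (fixed C.σ).subtype Subtype.val_injective p

/-- The norm of the generator, as an element of the fixed field. -/
def gK (j : Fˣ) : fixed C.σ := ⟨nu C (j : F), (mem_fixed (σ := C.σ)).2 (nu_fixed C _)⟩

theorem gK_ne (j : Fˣ) : gK C j ≠ 0 := fun h => by
  have h' := congrArg Subtype.val h
  change nu C (j : F) = 0 at h'
  rw [nu_pow C] at h'
  exact pow_ne_zero _ j.ne_zero h'

variable {j : Fˣ} (hj : ∀ t, t ∈ Subgroup.zpowers j)
include hj

theorem adjoin_gK {p a : ℕ} [Fact p.Prime] [CharP F p] (hqa : q = p ^ a) :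
    Algebra.adjoin ℤ {gK C j} = (⊤ : Subalgebra ℤ (fixed C.σ)) := by
  haveI := charP_fixed C (p := p)
  haveI := Fintype.ofFinite (fixed C.σ)
  refine adjoin_int_eq_top p (e := a) (by rw [← Nat.card_eq_fintype_card, C.hq, hqa]) _ fun d hd1 hd h => ?_
  have hp := (Fact.out : p.Prime).two_le
  have hpd : 1 < p ^ d := Nat.one_lt_pow (by omega) (by omega)
  have h' : (nu C (j : F)) ^ (p ^ d) = nu C (j : F) := congrArg Subtype.val h
  have hm : (nu C (j : F)) ^ (p ^ d - 1) = 1 := by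
    refine mul_right_cancel₀ (b := nu C (j : F)) ?_ ?_
    · rw [nu_pow C]; exact pow_ne_zero _ j.ne_zero
    · rw [← pow_succ, Nat.sub_add_cancel hpd.le, h', one_mul]
  rw [nu_pow C, ← pow_mul, ← Units.val_pow_eq_pow_val, Units.val_eq_one, ← orderOf_dvd_iff_pow_eq_one,
    ord_j C hj, sq_factor] at hm
  have hdiv := Nat.le_of_dvd (by omega) ((Nat.mul_dvd_mul_iff_left (by omega : 0 < q + 1)).1 hm)
  have : p ^ d < p ^ a := Nat.pow_lt_pow_right (by omega) (by omega)
  omega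

omit hj in
theorem cj_range {K : Type*} [Field K] (X : K → G) {h : G} {u : K} (hu : u ≠ 0)
    (hX : ∀ t, h * X t * h⁻¹ = X (u * t)) (k : ℤ) (t : K) : cj (X t) h k = X (u ^ k * t) := by
  induction k generalizing t with
  | zero => simp [cj_zero]
  | succ k ih =>
    rw [add_comm, ← cj_shift, ih, zpow_one, hX, ← mul_assoc, _root_.zpow_add₀ hu, zpow_one]
  | pred k ih =>
    have hi : ∀ t, h⁻¹ * X t * h = X (u⁻¹ * t) := fun t => by
      calc h⁻¹ * X t * h = h⁻¹ * X (u * (u⁻¹ * t)) * h := by rw [mul_inv_cancel_left₀ hu]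
        _ = _ := by rw [← hX]; group
    rw [show (-(k : ℤ) - 1) = (-1) + (-(k : ℤ)) by ring, ← cj_shift, ih, zpow_neg_one, inv_inv, hi, ← mul_assoc,
      _root_.zpow_add₀ hu, zpow_neg_one]

omit hj in
/-- A root subgroup given by a map which is additive. -/
def rootSub {K : Type*} [Field K] (X : K → G) (hX : ∀ s t, X s * X t = X (s + t)) : Subgroup G where
  carrier := Set.range X
  one_mem' := ⟨0, by
    have h := hX 0 0
    rw [add_zero] at h
    exact mul_left_cancel (a := X 0) (by rw [h, mul_one])⟩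
  mul_mem' := by
    rintro _ _ ⟨s, rfl⟩ ⟨t, rfl⟩
    exact ⟨s + t, (hX s t).symm⟩
  inv_mem' := by
    rintro _ ⟨s, rfl⟩
    refine ⟨-s, eq_inv_of_mul_eq_one_left ?_⟩
    rw [hX, neg_add_cancel]
    have h := hX 0 0
    rw [add_zero] at h
    exact mul_left_cancel (a := X 0) (by rw [h, mul_one])

/-- The relations on the centre of the root group. -/
structure ZRel (j : Fˣ) (p : ℕ) (z h : G) (α : ℤ) (f : ℤ[X]) : Prop where
  hα : ((gK C j) ^ α) = 1 + gK C j
  hf : ∀ P : ℤ[X], aeval (gK C j) P = 0 → ∃ Q R : ℤ[X], P = f * Q + Polynomial.C (p : ℤ) * R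
  comm : Commute z (cj z h 1)
  tri : cj z h α = z * cj z h 1
  pow : z ^ p = 1
  wf : word z h 1 f = 1

theorem exists_centre {p a : ℕ} [Fact p.Prime] [CharP F p] (hqa : q = p ^ a) {z h : G} {α : ℤ} {f : ℤ[X]}
    (R : ZRel C j p z h α f) :
    ∃ Z : Subgroup G, z ∈ Z ∧ (∀ k, cj z h k ∈ Z) ∧ (∀ a ∈ Z, ∀ b ∈ Z, Commute a b) ∧
      Z ≤ Subgroup.closure (Set.range fun k : ℤ => cj z h k) ∧ ∃ X : fixed C.σ → G, (Z : Set G) = Set.range X ∧
        (∀ s t, X s * X t = X (s + t)) ∧ ∀ k : ℤ, cj z h k = X (gK C j ^ k) := by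
  haveI := charP_fixed C (p := p)
  have hc := commute_all_of_trinomial R.comm R.tri
  have hg : h * z * h⁻¹ = word z h 1 Polynomial.X := by simp [word, List.range_succ, cj, coeff_X]
  obtain ⟨X, hX, hX1, hXh, hXw⟩ := exists_root_hom (p := p) (adjoin_gK C hj hqa) R.hf (u := gK C j)
    (aeval_X _) hc R.pow R.wf hg
  have hk : ∀ k, cj z h k = X (gK C j ^ k) := fun k => by
    rw [← hX1, cj_range X (gK_ne C j) hXh, mul_one]
  refine ⟨rootSub X hX, ⟨1, hX1⟩, fun k => ⟨_, (hk k).symm⟩, ?_, ?_, X, rfl, hX, hk⟩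
  · rintro _ ⟨s, rfl⟩ _ ⟨t, rfl⟩
    show _ = _
    rw [hX, hX, add_comm]
  · rintro _ ⟨s, rfl⟩
    obtain ⟨P, hP⟩ := aeval_adjoin_eq_top' (gK C j) (adjoin_gK C hj hqa) s
    rw [← hP, hXw]
    have hle : span z h 1 ≤ Subgroup.closure (Set.range fun k : ℤ => cj z h k) :=
      (Subgroup.closure_le _).2 (by rintro _ ⟨k, rfl⟩; exact Subgroup.subset_closure ⟨k * 1, rfl⟩)
    exact hle (word_mem_span z h 1 P)
where
  aeval_adjoin_eq_top' {K : Type _} [Field K] (B : K) (hB : Algebra.adjoin ℤ {B} = (⊤ : Subalgebra ℤ K)) (t : K) :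
      ∃ P : ℤ[X], aeval B P = t := by
    have ht : t ∈ Algebra.adjoin ℤ {B} := hB ▸ Algebra.mem_top
    rwa [Algebra.adjoin_singleton_eq_range_aeval] at ht

omit hj in
/-- The first element commutes with all the conjugates of the central one. -/
theorem centralises {x z h : G} (hh : IsOfFinOrder h) {m : ℕ} (Z : Subgroup G) (hzk : ∀ k, cj z h k ∈ Z)
    (hab : ∀ a ∈ Z, ∀ b ∈ Z, Commute a b) (h0 : Commute x z) (hm : Commute (h ^ m) z)
    (hx : h * x * h⁻¹ ∈ Subgroup.closure ((Set.range fun i : ℤ => cj x h (i * m)) ∪ (Z : Set G))) :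
    ∀ a ∈ Subgroup.closure (Set.range fun k : ℤ => cj z h k), Commute x a := by
  have step : ∀ k, Commute x (cj z h k) → Commute x (cj z h (k - 1)) := by
    intro k hk
    have hle : Subgroup.closure ((Set.range fun i : ℤ => cj x h (i * m)) ∪ (Z : Set G)) ≤
        Subgroup.centralizer {cj z h k} := by
      rw [Subgroup.closure_le]
      rintro g (⟨i, rfl⟩ | hg)
      · have hfix : h ^ (i * (m : ℤ)) * cj z h k * (h ^ (i * (m : ℤ)))⁻¹ = cj z h k := by
          rw [cj_shift, add_comm, ← cj_shift, cj, mul_comm i, _root_.zpow_mul, zpow_natCast,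
            (hm.zpow_left i).eq, mul_inv_cancel_right]
          rfl
        refine Subgroup.mem_centralizer_singleton_iff.2 ?_
        have := commute_conj (h ^ (i * (m : ℤ))) hk
        rw [hfix] at this
        exact this.eq
      · exact Subgroup.mem_centralizer_singleton_iff.2 (hab _ hg _ (hzk k)).eq
    have h1 : Commute (h * x * h⁻¹) (cj z h k) := Subgroup.mem_centralizer_singleton_iff.1 (hle hx)
    have h2 := commute_conj h⁻¹ h1
    rw [show h⁻¹ * (h * x * h⁻¹) * h⁻¹⁻¹ = x by group] at h2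
    rwa [show h⁻¹ * cj z h k * h⁻¹⁻¹ = cj z h (k - 1) by
      rw [show k - 1 = -1 + k by ring, ← cj_shift, zpow_neg_one]] at h2
  have hneg : ∀ n : ℕ, Commute x (cj z h (-(n : ℤ))) := by
    intro n
    induction n with
    | zero => simpa [cj_zero] using h0
    | succ n ih => rw [show (-((n + 1 : ℕ) : ℤ)) = -(n : ℤ) - 1 by push_cast; ring]; exact step _ ih
  intro a ha
  have hle : Subgroup.closure (Set.range fun k : ℤ => cj z h k) ≤ Subgroup.centralizer {x} := by
    rw [Subgroup.closure_le]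
    rintro _ ⟨k, rfl⟩
    refine Subgroup.mem_centralizer_singleton_iff.2 ?_
    have hN : ∀ n : ℤ, h ^ ((orderOf h : ℤ) * n) = 1 := fun n => by
      rw [_root_.zpow_mul, zpow_natCast, pow_orderOf_eq_one, one_zpow]
    obtain ⟨n, hn⟩ : ∃ n : ℕ, cj z h k = cj z h (-(n : ℤ)) := by
      refine ⟨((-k) % (orderOf h : ℤ)).toNat, ?_⟩
      have hpos : (orderOf h : ℤ) ≠ 0 := by exact_mod_cast hh.orderOf_pos.ne'
      rw [Int.toNat_of_nonneg (Int.emod_nonneg _ hpos)]
      have e : k = -((-k) % (orderOf h : ℤ)) + (orderOf h : ℤ) * -((-k) / (orderOf h : ℤ)) := by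
        have := Int.mul_ediv_add_emod (-k) (orderOf h : ℤ)
        linarith
      simp only [cj]
      conv_lhs => rw [e, _root_.zpow_add, hN, mul_one]
    show cj z h k * x = x * cj z h k
    rw [hn]
    exact (hneg n).symm.eq
  exact (Subgroup.mem_centralizer_singleton_iff.1 (hle ha)).symm

omit hj in
theorem mk_word {H : Type*} [Group H] (π : G →* H) (x h : G) (β : ℤ) (P : ℤ[X]) :
    π (word x h β P) = word (π x) (π h) β P := map_word π x h β P

/-- The relations modulo the centre. -/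
structure QRel (j : Fˣ) (p : ℕ) (x h : G) (Z : Subgroup G) (β : ℤ) (f gu : ℤ[X]) : Prop where
  hB : Algebra.adjoin ℤ {((muU C j ^ β : Fˣ) : F)} = (⊤ : Subalgebra ℤ F)
  hgu : aeval ((muU C j ^ β : Fˣ) : F) gu = mu C (j : F)
  hf : ∀ P : ℤ[X], aeval ((muU C j ^ β : Fˣ) : F) P = 0 →
    ∃ Q R : ℤ[X], P = f * Q + Polynomial.C (p : ℤ) * R
  comm : ∀ i : ℤ, ⁅x, cj x h (i * β)⁆ ∈ Z
  pow : x ^ p ∈ Z
  wf : word x h β f ∈ Z
  wg : h * x * h⁻¹ * (word x h β gu)⁻¹ ∈ Z

theorem card_root {p : ℕ} [Fact p.Prime] [CharP F p] {x h : G} {Z : Subgroup G} {β : ℤ} {f gu : ℤ[X]}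
    (R : QRel C j p x h Z β f gu) (hZx : Z ≤ Subgroup.closure {x, h}) (hZh : ∀ a ∈ Z, ∀ k : ℤ, cj a h k ∈ Z)
    (hxZ : ∀ a ∈ Z, Commute x a) {Z0 : fixed C.σ → G} (hZ0 : (Z : Set G) = Set.range Z0) :
    ∃ U : Subgroup G, (∀ k, cj x h k ∈ U) ∧ Z ≤ U ∧ U ≤ Subgroup.closure {x, h} ∧
      (∀ g ∈ U, ∀ k : ℤ, cj g h k ∈ U) ∧ ∃ s : F × fixed C.σ → G, (U : Set G) ⊆ Set.range s := by
  set S := Subgroup.closure ({x, h} : Set G) with hS
  have hxS : x ∈ S := Subgroup.subset_closure (by simp)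
  have hhS : h ∈ S := Subgroup.subset_closure (by simp)
  haveI : (Z.subgroupOf S).Normal := by
    have hle : S ≤ Subgroup.normalizer (Z : Set G) := by
      rw [hS, Subgroup.closure_le]
      rintro g hg
      simp only [Set.mem_insert_iff, Set.mem_singleton_iff] at hg
      rcases hg with rfl | rfl
      · refine Subgroup.mem_normalizer_iff.2 fun a => ⟨fun ha => by rwa [(hxZ a ha).eq, mul_inv_cancel_right],
          fun ha => ?_⟩
        have e : g * a = g * a * g⁻¹ * g := by group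
        rw [← (hxZ _ ha).eq] at e
        exact mul_left_cancel e ▸ ha
      · refine Subgroup.mem_normalizer_iff.2 fun a => ⟨fun ha => ?_, fun ha => ?_⟩
        · simpa [cj] using hZh a ha 1
        · have := hZh _ ha (-1)
          rwa [cj, zpow_neg_one, show g⁻¹ * (g * a * g⁻¹) * g⁻¹⁻¹ = a by group] at this
    refine ⟨fun a ha g => ?_⟩
    exact (Subgroup.mem_normalizer_iff.1 (hle g.2) (a : G)).1 ha
  set mk := QuotientGroup.mk' (Z.subgroupOf S)
  set xb := mk ⟨x, hxS⟩ with hxb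
  set hb := mk ⟨h, hhS⟩ with hhb
  have hwS : ∀ P, (word (⟨x, hxS⟩ : S) ⟨h, hhS⟩ β P : S).1 = word x h β P := fun P => map_word S.subtype _ _ β P
  have hcS : ∀ k, (cj (⟨x, hxS⟩ : S) ⟨h, hhS⟩ k : S).1 = cj x h k := fun k => map_cj S.subtype _ _ k
  have hmk : ∀ g : S, mk g = 1 ↔ (g : G) ∈ Z := fun g => by
    rw [QuotientGroup.mk'_apply, QuotientGroup.eq_one_iff, Subgroup.mem_subgroupOf]
  obtain ⟨X, hX, hX1, hXh, -⟩ := exists_root_hom (p := p) (x := xb) (h := hb) R.hB R.hf R.hgu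
    (fun i => by
      rw [← map_cj]
      refine commutatorElement_eq_one_iff_commute.1 ?_
      rw [← map_commutatorElement, hmk]
      show (((⁅(⟨x, hxS⟩ : S), cj (⟨x, hxS⟩ : S) ⟨h, hhS⟩ (i * β)⁆ : S)) : G) ∈ Z
      rw [show (((⁅(⟨x, hxS⟩ : S), cj (⟨x, hxS⟩ : S) ⟨h, hhS⟩ (i * β)⁆ : S)) : G) = ⁅x, cj x h (i * β)⁆ by
        rw [← hcS]; exact map_commutatorElement S.subtype _ _]
      exact R.comm i)
    (by rw [hxb, ← map_pow, hmk]; simpa using R.pow)
    (by rw [hxb, hhb, ← map_word, hmk, hwS]; exact R.wf)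
    (by
      rw [hxb, hhb, ← map_word, ← map_inv, ← map_mul, ← map_mul, ← mul_inv_eq_one, ← map_inv, ← map_mul, hmk]
      simp only [Subgroup.coe_mul, InvMemClass.coe_inv, hwS]
      exact R.wg)
  have hk : ∀ k, mk (cj (⟨x, hxS⟩ : S) ⟨h, hhS⟩ k) = X (mu C (j : F) ^ k) := fun k => by
    rw [map_cj, ← hxb, ← hhb, ← hX1, cj_range X (mu_ne C j.ne_zero) hXh, mul_one]
  set U := ((rootSub X hX).comap mk).map S.subtype with hU
  refine ⟨U, fun k => ⟨_, ⟨_, (hk k).symm⟩, hcS k⟩, fun a ha => ⟨⟨a, hZx ha⟩, ?_, rfl⟩, ?_, ?_, ?_⟩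
  · show mk _ ∈ rootSub X hX
    rw [(hmk _).2 ha]; exact one_mem _
  · rintro _ ⟨g, -, rfl⟩; exact g.2
  · rintro _ ⟨g, ⟨t, ht⟩, rfl⟩ k
    refine ⟨cj g ⟨h, hhS⟩ k, ⟨mu C (j : F) ^ k * t, ?_⟩, map_cj S.subtype _ _ k⟩
    rw [map_cj, ← hhb, ← ht, cj_range X (mu_ne C j.ne_zero) hXh]
  · choose lift hlift using fun t => QuotientGroup.mk'_surjective (Z.subgroupOf S) (X t)
    refine ⟨fun st => (lift st.1 : G) * Z0 st.2, ?_⟩
    rintro _ ⟨g, ⟨t, ht⟩, rfl⟩
    have hm : (((lift t)⁻¹ * g : S) : G) ∈ Z := by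
      rw [← hmk, map_mul, map_inv, hlift, ← ht, inv_mul_cancel]
    have : (((lift t)⁻¹ * g : S) : G) ∈ Set.range Z0 := hZ0 ▸ hm
    obtain ⟨s, hs⟩ := this
    exact ⟨(t, s), by show (lift t : G) * Z0 s = (g : G); rw [hs]; simp⟩

/-- A group generated by the two elements maps isomorphically onto the stabiliser. -/
theorem borel_inj (h4 : 4 ≤ q) (π : G →* ↥(Cfsg.SU 3 F q)) {x z h : G} (hπx : π x = x0 C)
    (hπz : π z = z0 C j) (hπh : π h = dH C j) (hhn : h ^ (q ^ 2 - 1) = 1) {U : Subgroup G}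
    (hUx : ∀ k, cj x h k ∈ U) (hUz : z ∈ U) (hUS : U ≤ Subgroup.closure {x, h})
    (hUn : ∀ g ∈ U, ∀ k : ℤ, cj g h k ∈ U) {s : F × fixed C.σ → G} (hs : (U : Set G) ⊆ Set.range s) :
    (Subgroup.closure {x, h}).map π = borel C ∧
      ∀ g ∈ Subgroup.closure ({x, h} : Set G), π g = 1 → g = 1 := by
  classical
  set S := Subgroup.closure ({x, h} : Set G) with hS
  have hrad : rad C ≤ U.map π := rad_le C hj h4 _
    (fun k => ⟨cj x h k, hUx k, by rw [map_cj, hπx, hπh]⟩)
    (fun k => ⟨cj z h k, hUn z hUz k, by rw [map_cj, hπz, hπh]⟩)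
  haveI : Finite U := by
    choose pre hpre using fun u : U => hs u.2
    exact Finite.of_injective pre fun a b e => Subtype.ext (by rw [← hpre a, ← hpre b, e])
  have hcard : Nat.card U ≤ q ^ 3 := by
    refine le_trans ?_ (le_of_eq (show Nat.card (F × fixed C.σ) = q ^ 3 by
      rw [Nat.card_prod, card_F C, C.hq]; ring))
    choose pre hpre using fun u : U => hs u.2
    exact Nat.card_le_card_of_injective pre fun a b e => Subtype.ext (by rw [← hpre a, ← hpre b, e])
  have hb : Function.Bijective (π.subgroupMap U) := by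
    refine (Nat.bijective_iff_surjective_and_card _).2 ⟨π.subgroupMap_surjective U, le_antisymm ?_ ?_⟩
    · exact hcard.trans ((card_rad C).symm.le.trans (Subgroup.card_le_of_le hrad))
    · exact Nat.card_le_card_of_surjective _ (π.subgroupMap_surjective U)
  have hUeq : U.map π = rad C := by
    refine (Subgroup.eq_of_le_of_card_ge hrad ?_).symm
    rw [card_rad C, ← Nat.card_eq_of_bijective _ hb]
    exact hcard
  have hmap : S.map π = borel C := by
    refine le_antisymm ?_ (borel_le C hj h4 _ ⟨x, Subgroup.subset_closure (by simp), hπx⟩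
      ⟨h, Subgroup.subset_closure (by simp), hπh⟩)
    rw [hS, MonoidHom.map_closure, Subgroup.closure_le]
    rintro _ ⟨g, hg, rfl⟩
    simp only [Set.mem_insert_iff, Set.mem_singleton_iff] at hg
    rcases hg with rfl | rfl
    · rw [hπx]; exact (x0_mem C).1
    · rw [hπh]; exact dH_mem C j
  refine ⟨hmap, fun g hg hg1 => ?_⟩
  have hform : ∃ u ∈ U, ∃ i : ℤ, g = u * h ^ i := by
    clear hg1
    induction hg using Subgroup.closure_induction_right with
    | one => exact ⟨1, one_mem _, 0, by simp⟩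
    | mul_right g hg y hy ih =>
      obtain ⟨u, hu, i, rfl⟩ := ih
      simp only [Set.mem_insert_iff, Set.mem_singleton_iff] at hy
      rcases hy with rfl | rfl
      · exact ⟨u * cj y h i, mul_mem hu (hUx i), i, by simp only [cj]; group⟩
      · exact ⟨u, hu, i + 1, by rw [_root_.zpow_add, zpow_one, mul_assoc]⟩
    | mul_inv_cancel g hg y hy ih =>
      obtain ⟨u, hu, i, rfl⟩ := ih
      simp only [Set.mem_insert_iff, Set.mem_singleton_iff] at hy
      rcases hy with rfl | rfl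
      · exact ⟨u * (cj y h i)⁻¹, mul_mem hu (inv_mem (hUx i)), i, by simp only [cj]; group⟩
      · exact ⟨u, hu, i - 1, by rw [_root_.zpow_sub, zpow_one, mul_assoc]⟩
  obtain ⟨u, hu, i, rfl⟩ := hform
  have hd : dH C (j ^ i) ∈ rad C := by
    rw [map_zpow, ← hπh, ← map_zpow, show π (h ^ i) = (π u)⁻¹ by
      rw [map_mul] at hg1; exact eq_inv_of_mul_eq_one_right hg1]
    exact inv_mem (hUeq ▸ ⟨u, hu, rfl⟩)
  have hji : j ^ i = 1 := by
    apply Units.ext
    have := hd.2
    rw [dH_apply, lam_dEl] at this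
    rw [this, Units.val_one]
  have hi : h ^ i = 1 := by
    obtain ⟨c, hc⟩ := orderOf_dvd_iff_zpow_eq_one.2 hji
    rw [ord_j C hj] at hc
    rw [hc, _root_.zpow_mul, zpow_natCast, hhn, one_zpow]
  rw [hi, mul_one] at hg1 ⊢
  exact congrArg Subtype.val (hb.1 (a₁ := ⟨u, hu⟩) (a₂ := 1) (Subtype.ext (by simpa using hg1)))

end Cfsg.Agent.SU3Pres
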