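import Cfsg.Agent.Lib.SU3Pres.Borel

/-!
Evaluating the words of the presentation of `SU₃(q)` in the root group.
-/

set_option autoImplicit false
set_option linter.unusedSectionVars false
set_option linter.style.haveILetI false

namespace Cfsg.Agent.SU3Pres

open Hermitian PSU3Index SL2Pres Polynomial
open scoped commutatorElement

section Rel

variable {G : Type*} [Group G] {K : Type*} [CommRing K]

/-- Evaluation of a word along a relation compatible with the operations. -/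
theorem word_rel (R : G → K → Prop) (hone : R 1 0)
    (hmul : ∀ g g' a a', R g a → R g' a' → R (g * g') (a + a')) (hinv : ∀ g a, R g a → R g⁻¹ (-a))
    (x h : G) (β : ℤ) {B : K} (hbase : ∀ i : ℕ, R (cj x h ((i : ℤ) * β)) (B ^ i)) (P : ℤ[X]) :
    R (word x h β P) (aeval B P) := by
  have hpow : ∀ g a (n : ℕ), R g a → R (g ^ n) ((n : K) * a) := by
    intro g a n hg
    induction n with
    | zero => simpa using hone
    | succ n ih =>
      rw [pow_succ, Nat.cast_succ, add_mul, one_mul]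
      exact hmul _ _ _ _ ih hg
  have hz : ∀ g a (n : ℤ), R g a → R (g ^ n) ((n : K) * a) := by
    intro g a n hg
    rcases Int.eq_nat_or_neg n with ⟨m, rfl | rfl⟩
    · rw [zpow_natCast, Int.cast_natCast]; exact hpow g a m hg
    · rw [zpow_neg, zpow_natCast, Int.cast_neg, Int.cast_natCast, neg_mul]
      exact hinv _ _ (hpow g a m hg)
  have key : ∀ n, R ((List.range n).map fun i : ℕ => cj x h ((i : ℤ) * β) ^ P.coeff i).prod
      (∑ i ∈ Finset.range n, (P.coeff i : K) * B ^ i) := by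
    intro n
    induction n with
    | zero => simpa using hone
    | succ n ih =>
      rw [Finset.sum_range_succ, List.range_succ, List.map_append, List.prod_append, List.map_singleton,
        List.prod_singleton]
      exact hmul _ _ _ _ ih (hz _ _ _ (hbase n))
  rw [word, aeval_eq_sum_range]
  simpa [zsmul_eq_mul] using key (P.natDegree + 1)

/-- An element of a subgroup generated by an image has a preimage generated by the original set. -/
theorem exists_pre {P H : Type*} [Group P] [Group H] (φ : P →* H) (T : Set P) {s : H}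
    (hs : s ∈ Subgroup.closure (φ '' T)) : ∃ w ∈ Subgroup.closure T, φ w = s := by
  rwa [← MonoidHom.map_closure, Subgroup.mem_map] at hs

theorem map_mem {P H : Type*} [Group P] [Group H] (φ : P →* H) {T : Set P} {w : P}
    (hw : w ∈ Subgroup.closure T) : φ w ∈ Subgroup.closure (φ '' T) := by
  rw [← MonoidHom.map_closure]; exact ⟨w, hw, rfl⟩

theorem image_cj {P H ι : Type*} [Group P] [Group H] (φ : P →* H) (x h : P) (f : ι → ℤ) :
    φ '' Set.range (fun i => cj x h (f i)) = Set.range fun i => cj (φ x) (φ h) (f i) := by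
  rw [← Set.range_comp]
  exact congrArg Set.range (funext fun i => map_cj φ x h (f i))

/-- The subgroup generated by all conjugates. -/
def cjs (z h : G) : Subgroup G := Subgroup.closure (Set.range fun k : ℤ => cj z h k)

theorem cj_mem_cjs (z h : G) (k : ℤ) : cj z h k ∈ cjs z h := Subgroup.subset_closure ⟨k, rfl⟩

theorem self_mem_cjs (z h : G) : z ∈ cjs z h := by simpa [cj_zero] using cj_mem_cjs z h 0

theorem cjs_cj (z h : G) {a : G} (ha : a ∈ cjs z h) (k : ℤ) : cj a h k ∈ cjs z h := by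
  refine (Subgroup.closure_le ((cjs z h).comap (MulAut.conj (h ^ k)).toMonoidHom)).2 ?_ ha
  rintro _ ⟨i, rfl⟩
  change h ^ k * cj z h i * (h ^ k)⁻¹ ∈ cjs z h
  rw [cj_shift]
  exact cj_mem_cjs z h _

end Rel

variable {F : Type*} [Field F] [Fintype F] {q : ℕ} (C : Ctx F q)

/-- The quotient coordinate of a root element. -/
def HasA (g : ↥(Cfsg.SU 3 F q)) (a : F) : Prop := ∃ b h, g = uEl C a b h

/-- A multiple of the central root element. -/
def HasC (j : Fˣ) (g : ↥(Cfsg.SU 3 F q)) (t : F) : Prop :=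
  ∃ h : t * d0 C j + C.σ (t * d0 C j) + 0 * C.σ (0 : F) = 0, g = uEl C 0 (t * d0 C j) h

theorem hasA_one : HasA C 1 0 := ⟨0, zero_eq C, (uEl_one C).symm⟩

theorem hasA_mul {g g' : ↥(Cfsg.SU 3 F q)} {a a' : F} (h : HasA C g a) (h' : HasA C g' a') :
    HasA C (g * g') (a + a') := by
  obtain ⟨b, e, rfl⟩ := h
  obtain ⟨b', e', rfl⟩ := h'
  exact ⟨_, _, uEl_mul C e e'⟩

theorem hasA_inv {g : ↥(Cfsg.SU 3 F q)} {a : F} (h : HasA C g a) : HasA C g⁻¹ (-a) := by
  obtain ⟨b, e, rfl⟩ := h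
  exact ⟨_, _, uEl_inv C e⟩

theorem hasA_pow {g : ↥(Cfsg.SU 3 F q)} {a : F} (h : HasA C g a) (n : ℕ) : HasA C (g ^ n) ((n : F) * a) := by
  induction n with
  | zero => simpa using hasA_one C
  | succ n ih =>
    rw [pow_succ, Nat.cast_succ, add_mul, one_mul]
    exact hasA_mul C ih h

theorem hasA_x0 : HasA C (x0 C) 1 := ⟨_, _, rfl⟩

theorem hasA_cj (j : Fˣ) (k : ℤ) : HasA C (cj (x0 C) (dH C j) k) (mu C ((j ^ k : Fˣ) : F)) := by
  rw [cj_x0]
  exact ⟨_, _, uEl_ext C _ ((show _ from by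
    have := conj_eq C (exists_b1 C).choose_spec (j ^ k : Fˣ).ne_zero
    rwa [mul_one] at this)) (mul_one _) rfl⟩

theorem hasA_cj_mul (j : Fˣ) (β : ℤ) (i : ℕ) :
    HasA C (cj (x0 C) (dH C j) ((i : ℤ) * β)) (((muU C j ^ β : Fˣ) : F) ^ i) := by
  have := hasA_cj C j ((i : ℤ) * β)
  rwa [muU_zpow] at this

theorem hasA_cj' (j : Fˣ) (β : ℤ) : HasA C (cj (x0 C) (dH C j) β) ((muU C j ^ β : Fˣ) : F) := by
  have := hasA_cj_mul C j β 1
  rwa [Nat.cast_one, one_mul, pow_one] at this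

theorem hasA_word (j : Fˣ) (β : ℤ) (P : ℤ[X]) :
    HasA C (word (x0 C) (dH C j) β P) (aeval ((muU C j ^ β : Fˣ) : F) P) :=
  word_rel (HasA C) (hasA_one C) (fun _ _ _ _ => hasA_mul C) (fun _ _ => hasA_inv C) _ _ _
    (hasA_cj_mul C j β) P

theorem hasA_comm {g g' : ↥(Cfsg.SU 3 F q)} {a a' : F} (h : HasA C g a) (h' : HasA C g' a') :
    HasA C ⁅g, g'⁆ 0 := by
  obtain ⟨b, e, rfl⟩ := h
  obtain ⟨b', e', rfl⟩ := h'
  exact ⟨_, _, uEl_comm C e e'⟩

theorem hasA_rad {g : ↥(Cfsg.SU 3 F q)} {a : F} (h : HasA C g a) : g ∈ rad C := by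
  obtain ⟨b, e, rfl⟩ := h
  exact uEl_mem_rad C e

theorem gK_zpow (j : Fˣ) (k : ℤ) : ((gK C j ^ k : fixed C.σ) : F) = nu C ((j ^ k : Fˣ) : F) := by
  rw [← nuU_val, map_zpow, Units.val_zpow_eq_zpow_val, nuU_val]
  exact map_zpow₀ (fixed C.σ).subtype (gK C j) k

theorem hasC_one (j : Fˣ) : HasC C j 1 0 :=
  ⟨by simp, by rw [← uEl_one C]; exact uEl_ext C _ _ rfl (zero_mul _).symm⟩

theorem hasC_eq_one {j : Fˣ} {g : ↥(Cfsg.SU 3 F q)} (h : HasC C j g 0) : g = 1 := by
  obtain ⟨e, rfl⟩ := h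
  rw [← uEl_one C]
  exact uEl_ext C _ _ rfl (zero_mul _)

theorem hasC_unique {j : Fˣ} {g g' : ↥(Cfsg.SU 3 F q)} {t : F} (h : HasC C j g t) (h' : HasC C j g' t) :
    g = g' := by
  obtain ⟨e, rfl⟩ := h
  obtain ⟨e', rfl⟩ := h'
  rfl

theorem hasC_mul {j : Fˣ} {g g' : ↥(Cfsg.SU 3 F q)} {a a' : F} (h : HasC C j g a) (h' : HasC C j g' a') :
    HasC C j (g * g') (a + a') := by
  obtain ⟨e, rfl⟩ := h
  obtain ⟨e', rfl⟩ := h'
  refine ⟨?_, ?_⟩
  · simp only [add_mul, map_add, map_zero, mul_zero, add_zero] at e e' ⊢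
    linear_combination e + e'
  · rw [uEl_mul]
    exact uEl_ext C _ _ (add_zero _) (by simp [add_mul])

theorem hasC_inv {j : Fˣ} {g : ↥(Cfsg.SU 3 F q)} {a : F} (h : HasC C j g a) : HasC C j g⁻¹ (-a) := by
  obtain ⟨e, rfl⟩ := h
  have e' : C.σ (a * d0 C j) = -a * d0 C j := by
    rw [map_zero, mul_zero, add_zero] at e; linear_combination e
  refine ⟨?_, ?_⟩
  · rw [map_zero, mul_zero, add_zero] at e ⊢
    rw [neg_mul, map_neg]; linear_combination -e
  · rw [uEl_inv]
    exact uEl_ext C _ _ neg_zero e'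

theorem hasC_pow {j : Fˣ} {g : ↥(Cfsg.SU 3 F q)} {a : F} (h : HasC C j g a) (n : ℕ) :
    HasC C j (g ^ n) ((n : F) * a) := by
  induction n with
  | zero => simpa using hasC_one C j
  | succ n ih =>
    rw [pow_succ, Nat.cast_succ, add_mul, one_mul]
    exact hasC_mul C ih h

theorem hasC_cj (j : Fˣ) (k : ℤ) : HasC C j (cj (z0 C j) (dH C j) k) ((gK C j ^ k : fixed C.σ) : F) := by
  rw [gK_zpow, z0, cj_uEl]
  have := conj_eq C (d0_eq C (j := j)) (j ^ k : Fˣ).ne_zero
  rw [mul_zero] at this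
  exact ⟨this, uEl_ext C _ _ (mul_zero _) rfl⟩

theorem hasC_z0 (j : Fˣ) : HasC C j (z0 C j) 1 := by
  have := hasC_cj C j 0
  rwa [cj_zero, zpow_zero] at this

theorem hasC_word (j : Fˣ) (P : ℤ[X]) :
    HasC C j (word (z0 C j) (dH C j) 1 P) ((aeval (gK C j) P : fixed C.σ) : F) := by
  have h := word_rel (K := F) (HasC C j) (hasC_one C j) (fun _ _ _ _ => hasC_mul C) (fun _ _ => hasC_inv C)
    (z0 C j) (dH C j) 1 (B := ((gK C j : fixed C.σ) : F)) (fun i => by
      have := hasC_cj C j (i : ℤ)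
      rw [mul_one]; simpa using this) P
  convert h using 1
  exact (aeval_algHom_apply ((fixed C.σ).subtype.toIntAlgHom) (gK C j) P).symm

variable {j : Fˣ} (hj : ∀ t, t ∈ Subgroup.zpowers j)
include hj

theorem zc_of_hasA (h4 : 4 ≤ q) {g : ↥(Cfsg.SU 3 F q)} (h : HasA C g 0) : g ∈ cjs (z0 C j) (dH C j) := by
  obtain ⟨b, e, rfl⟩ := h
  exact centre_mem C hj h4 e _ (cj_mem_cjs _ _)

theorem zc_of_eq (h4 : 4 ≤ q) {g g' : ↥(Cfsg.SU 3 F q)} {a : F} (h : HasA C g a) (h' : HasA C g' a) :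
    g * g'⁻¹ ∈ cjs (z0 C j) (dH C j) := by
  refine zc_of_hasA C hj h4 ?_
  have := hasA_mul C h (hasA_inv C h')
  rwa [add_neg_cancel] at this

end Cfsg.Agent.SU3Pres
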