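import Cfsg.Agent.Lib.PSU3Index.Data
import Cfsg.Agent.Lib.SL2Pres.FieldGen

/-!
The field with `q²` elements as seen by the torus of `SU₃(q)`: multipliers, generators and a trinomial.
-/

set_option autoImplicit false
set_option linter.unusedSectionVars false
set_option linter.style.haveILetI false

namespace Cfsg.Agent.SU3Pres

open Hermitian PSU3Index

variable {F : Type*} [Field F] [Fintype F] {q : ℕ} (C : Ctx F q)

theorem mu_pow {l : F} (hl : l ≠ 0) : mu C l = l ^ (2 * q - 1) := by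
  have := q_two_le C
  rw [mu, C.hσ, ← pow_add, div_eq_iff hl, ← pow_succ]
  congr 1
  omega

theorem nu_pow (l : F) : nu C l = l ^ (q + 1) := by rw [nu, C.hσ, pow_succ']

theorem sq_factor : q ^ 2 - 1 = (q + 1) * (q - 1) := by rw [show (1 : ℕ) = 1 ^ 2 from rfl, Nat.sq_sub_sq]; simp

include C in
theorem card_units' : Nat.card Fˣ = q ^ 2 - 1 := by rw [Nat.card_units, card_F C]

include C in
theorem pow_card_units (x : Fˣ) : x ^ (q ^ 2 - 1) = 1 := by rw [← card_units' C]; exact pow_card_eq_one'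

/-- The multiplier of the torus on the quotient of the root group. -/
def muU (_C : Ctx F q) : Fˣ →* Fˣ := powMonoidHom (2 * q - 1)

theorem muU_val (l : Fˣ) : (muU C l : F) = mu C l := by
  rw [mu_pow C l.ne_zero]; rfl

/-- The multiplier of the torus on the centre of the root group. -/
def nuU (_C : Ctx F q) : Fˣ →* Fˣ := powMonoidHom (q + 1)

theorem nuU_val (l : Fˣ) : (nuU C l : F) = nu C l := by
  rw [nu_pow C]; rfl

theorem mu_fixed {r : F} (hr : C.σ r = r) : mu C r = r := by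
  rw [mu, hr, mul_self_div_self]

theorem mu_ne {l : F} (hl : l ≠ 0) : mu C l ≠ 0 := by rw [mu_pow C hl]; exact pow_ne_zero _ hl

theorem nu_fixed (l : F) : C.σ (nu C l) = nu C l := by
  rw [nu, map_mul, C.hinv, mul_comm]

variable {j : Fˣ} (hj : ∀ t, t ∈ Subgroup.zpowers j)
include hj

include C in
theorem ord_j : orderOf j = q ^ 2 - 1 := by
  rw [orderOf_eq_card_of_forall_mem_zpowers hj, card_units' C]

theorem exists_pow (x : F) (hx : x ≠ 0) : ∃ i : ℕ, ((j : F)) ^ i = x := by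
  obtain ⟨i, hi⟩ := mem_powers_iff_mem_zpowers.2 (hj (Units.mk0 x hx))
  exact ⟨i, by have := congrArg Units.val hi; simpa using this⟩

theorem fixed_iff_dvd (k : ℕ) : C.σ ((j : F) ^ k) = (j : F) ^ k ↔ q + 1 ∣ k := by
  have hq := q_two_le C
  have h0 : (j : F) ^ k ≠ 0 := pow_ne_zero _ j.ne_zero
  have h1 : C.σ ((j : F) ^ k) = (j : F) ^ k ↔ j ^ (k * (q - 1)) = 1 := by
    rw [C.hσ, ← Units.val_inj, Units.val_pow_eq_pow_val, Units.val_one, pow_mul]
    conv_lhs => rw [show q = q - 1 + 1 by omega, pow_succ]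
    exact mul_eq_right₀ h0
  rw [h1, ← orderOf_dvd_iff_pow_eq_one, ord_j C hj, sq_factor]
  exact Nat.mul_dvd_mul_iff_right (by omega)

theorem not_fixed_one : C.σ (j : F) ≠ j := fun h => by
  have := (fixed_iff_dvd C hj 1).1 (by simpa using h)
  have := Nat.le_of_dvd one_pos this
  have := q_two_le C
  omega

omit hj in
include C in
/-- A criterion for an element to generate the field as a ring. -/
theorem adjoin_of (h4 : 4 ≤ q) (h5 : q ≠ 5) (h8 : q ≠ 8) {B : F} (hB0 : B ≠ 0)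
    (hB : ∀ m : ℕ, B ^ m = 1 → q + 1 ∣ 3 * m) : Algebra.adjoin ℤ {B} = (⊤ : Subalgebra ℤ F) := by
  obtain ⟨p, a, hp, ha, hqa, hcp⟩ := exists_prime_pow C
  haveI := Fact.mk hp
  haveI := hcp
  refine SL2Pres.adjoin_int_eq_top p (e := 2 * a)
    (by rw [← Nat.card_eq_fintype_card, card_F C, hqa, ← pow_mul, mul_comm]) B fun d hd1 hd h => ?_
  have hda : d ≤ a := by omega
  have hpd : 1 < p ^ d := Nat.one_lt_pow (by omega) hp.one_lt
  have hm : B ^ (p ^ d - 1) = 1 := by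
    refine mul_right_cancel₀ hB0 ?_
    rw [← pow_succ, Nat.sub_add_cancel hpd.le, h, one_mul]
  obtain ⟨k, hk⟩ := hB _ hm
  have hk1 : 1 ≤ k := by
    rcases Nat.eq_zero_or_pos k with rfl | hk0
    · omega
    · exact hk0
  rcases eq_or_lt_of_le hda with rfl | hlt
  · rw [← hqa] at hk
    have hk3 : k < 3 := by
      by_contra hk3
      have : (q + 1) * 3 ≤ (q + 1) * k := Nat.mul_le_mul_left _ (by omega)
      omega
    interval_cases k <;> omega
  · have hP : p * p ^ d ≤ q := by rw [hqa, ← pow_succ']; exact Nat.pow_le_pow_right hp.pos hlt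
    have hk2 : k < 2 := by
      have : 2 * p ^ d ≤ p * p ^ d := Nat.mul_le_mul_right _ hp.two_le
      by_contra hk2
      have : (q + 1) * 2 ≤ (q + 1) * k := Nat.mul_le_mul_left _ (by omega)
      omega
    obtain rfl : k = 1 := by omega
    have hp2 : p = 2 := by
      by_contra hne
      have h3 := hp.two_le
      have : 3 * p ^ d ≤ p * p ^ d := Nat.mul_le_mul_right _ (by omega)
      omega
    subst hp2
    rcases Nat.lt_or_ge d 3 with hd3 | hd3
    · interval_cases d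
      · omega
      · omega
    · obtain ⟨c, hc⟩ : 8 ∣ 2 ^ d := (show 2 ^ 3 ∣ 2 ^ d from pow_dvd_pow 2 hd3)
      obtain ⟨c', hc'⟩ : 8 ∣ 2 ^ a := (show 2 ^ 3 ∣ 2 ^ a from pow_dvd_pow 2 (hd3.trans hda))
      omega

/-- The multiplier of the generator generates the field. -/
theorem adjoin_mu (h4 : 4 ≤ q) : Algebra.adjoin ℤ {mu C (j : F)} = (⊤ : Subalgebra ℤ F) := by
  obtain ⟨p, a, hp, ha, hqa, hcp⟩ := exists_prime_pow C
  haveI := Fact.mk hp
  haveI := hcp
  refine SL2Pres.adjoin_int_eq_top p (e := 2 * a)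
    (by rw [← Nat.card_eq_fintype_card, card_F C, hqa, ← pow_mul, mul_comm]) _ fun d hd1 hd h => ?_
  have hpd : 1 < p ^ d := Nat.one_lt_pow (by omega) hp.one_lt
  have hle : p ^ d ≤ q := hqa ▸ Nat.pow_le_pow_right hp.pos (by omega)
  have hm : (mu C (j : F)) ^ (p ^ d - 1) = 1 := by
    refine mul_right_cancel₀ (mu_ne C j.ne_zero) ?_
    rw [← pow_succ, Nat.sub_add_cancel hpd.le, h, one_mul]
  rw [mu_pow C j.ne_zero, ← pow_mul, ← Units.val_pow_eq_pow_val, Units.val_eq_one,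
    ← orderOf_dvd_iff_pow_eq_one, ord_j C hj] at hm
  have h3 : q ^ 2 - 1 ∣ 3 * (p ^ d - 1) := by
    have e : (4 * (q ^ 2 - 1)) + 3 = (2 * q - 1) * (2 * q + 1) := by
      have h1 : 1 ≤ q ^ 2 := Nat.one_le_pow _ _ (by omega)
      have h2 : (2 * q - 1) * (2 * q + 1) + 1 = 4 * q ^ 2 := by
        obtain ⟨r, rfl⟩ : ∃ r, q = r + 1 := ⟨q - 1, by omega⟩
        rw [show 2 * (r + 1) - 1 = 2 * r + 1 by omega]; ring
      omega
    have h4' := hm.mul_right (2 * q + 1)
    rw [show (2 * q - 1) * (p ^ d - 1) * (2 * q + 1) = (4 * (q ^ 2 - 1) + 3) * (p ^ d - 1) by rw [e]; ring,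
      add_mul] at h4'
    exact (Nat.dvd_add_right ((dvd_mul_left _ 4).mul_right _)).1 h4'
  have := Nat.le_of_dvd (by omega) h3
  have : q * 4 ≤ q ^ 2 := by rw [pow_two]; exact Nat.mul_le_mul_left q h4
  omega

/-- The multiplier of the norm one generator generates the field. -/
theorem adjoin_norm_one (h4 : 4 ≤ q) (h5 : q ≠ 5) (h8 : q ≠ 8) :
    Algebra.adjoin ℤ {mu C ((j : F) ^ (q - 1))} = (⊤ : Subalgebra ℤ F) := by
  have h0 : (j : F) ^ (q - 1) ≠ 0 := pow_ne_zero _ j.ne_zero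
  refine adjoin_of C h4 h5 h8 (mu_ne C h0) fun m hm => ?_
  rw [mu_pow C h0, ← pow_mul, ← pow_mul, ← Units.val_pow_eq_pow_val, Units.val_eq_one,
    ← orderOf_dvd_iff_pow_eq_one, ord_j C hj, sq_factor, mul_comm (q + 1),
    Nat.mul_dvd_mul_iff_left (by omega : 0 < q - 1)] at hm
  have e : 3 * m + (2 * q - 1) * m = (q + 1) * (2 * m) := by
    rw [← add_mul, show 3 + (2 * q - 1) = (q + 1) * 2 by omega, mul_assoc]
  exact (Nat.dvd_add_left hm).1 (e ▸ dvd_mul_right _ _)

/-- A trinomial in the image of the multiplier whose middle term generates the field. -/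
theorem exists_trinomial (h4 : 4 ≤ q) (h5 : q ≠ 5) (h8 : q ≠ 8) :
    ∃ α β : ℤ, Algebra.adjoin ℤ {((muU C j ^ β : Fˣ) : F)} = (⊤ : Subalgebra ℤ F) ∧
      ((muU C j ^ α : Fˣ) : F) = 1 + ((muU C j ^ β : Fˣ) : F) := by
  set x : F := (j : F) ^ 3 with hx
  have hx0 : x ≠ 0 := pow_ne_zero _ j.ne_zero
  set T := x + C.σ x with hT
  set N := x * C.σ x with hN
  have hN0 : N ≠ 0 := mul_ne_zero hx0 ((map_ne_zero C.σ).2 hx0)
  have hNf : C.σ N = N := by rw [hN, map_mul, C.hinv, mul_comm]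
  have hTf : C.σ T = T := by rw [hT, map_add, C.hinv, add_comm]
  have hT0 : T ≠ 0 := by
    intro h
    have e : C.σ (x * x) = x * x := by rw [map_mul, eq_neg_of_add_eq_zero_right h, neg_mul_neg]
    rw [hx, ← pow_add] at e
    have h6 := Nat.le_of_dvd (by norm_num) ((fixed_iff_dvd C hj 6).1 e)
    have hd := (fixed_iff_dvd C hj 6).1 e
    obtain rfl : q = 4 := by omega
    norm_num at hd
  have hcube : mu C ((j : F) ^ (2 * q + 1)) = x := by
    rw [mu_pow C (pow_ne_zero _ j.ne_zero), ← pow_mul, hx,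
      show (2 * q + 1) * (2 * q - 1) = 4 * (q ^ 2 - 1) + 3 by
        have h1 : 1 ≤ q ^ 2 := Nat.one_le_pow _ _ (by omega)
        have h2 : (2 * q + 1) * (2 * q - 1) + 1 = 4 * q ^ 2 := by
          obtain ⟨r, rfl⟩ : ∃ r, q = r + 1 := ⟨q - 1, by omega⟩
          rw [show 2 * (r + 1) - 1 = 2 * r + 1 by omega]; ring
        omega,
      pow_add, pow_mul', ← Units.val_pow_eq_pow_val, ← Units.val_pow_eq_pow_val, pow_card_units C, one_pow, Units.val_one,
      one_mul]
  have hmul : ∀ a b : F, mu C (a * b) = mu C a * mu C b := fun a b => by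
    simp only [mu, map_mul]; rw [div_mul_div_comm]; ring_nf
  have hr : ∀ r : F, r ≠ 0 → ∃ i : ℤ, ((muU C j ^ i : Fˣ) : F) = mu C r := fun r hr => by
    obtain ⟨i, hi⟩ := hj (Units.mk0 r hr)
    refine ⟨i, ?_⟩
    rw [← map_zpow]
    change j ^ i = _ at hi
    rw [hi, muU_val, Units.val_mk0]
  obtain ⟨β, hβ⟩ := hr (-T / N * (j : F) ^ (2 * q + 1))
    (mul_ne_zero (div_ne_zero (neg_ne_zero.2 hT0) hN0) (pow_ne_zero _ j.ne_zero))
  obtain ⟨α, hα⟩ := hr (-1 / N * ((j : F) ^ (2 * q + 1)) ^ 2)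
    (mul_ne_zero (div_ne_zero (neg_ne_zero.2 one_ne_zero) hN0) (pow_ne_zero _ (pow_ne_zero _ j.ne_zero)))
  have hfT : C.σ (-T / N) = -T / N := by rw [map_div₀, map_neg, hTf, hNf]
  have hf1 : C.σ (-1 / N) = -1 / N := by rw [map_div₀, map_neg, map_one, hNf]
  rw [hmul, mu_fixed C hfT, hcube] at hβ
  rw [hmul, mu_fixed C hf1, pow_two, hmul, hcube] at hα
  refine ⟨α, β, ?_, ?_⟩
  · rw [hβ]
    refine adjoin_of C h4 h5 h8 (mul_ne_zero (div_ne_zero (neg_ne_zero.2 hT0) hN0) hx0) fun m hm => ?_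
    refine (fixed_iff_dvd C hj (3 * m)).1 ?_
    rw [pow_mul, ← hx]
    rw [mul_pow] at hm
    have hrm : (-T / N) ^ m ≠ 0 := pow_ne_zero _ (div_ne_zero (neg_ne_zero.2 hT0) hN0)
    rw [eq_inv_of_mul_eq_one_right hm, map_inv₀, map_pow, hfT]
  · rw [hα, hβ, hT, hN]
    have hσx : C.σ x ≠ 0 := (map_ne_zero C.σ).2 hx0
    field_simp
    ring

end Cfsg.Agent.SU3Pres
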