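import Cfsg.Agent.Lib.SU3Pres.Borel

/-!
The relations of the Weyl element: few of them imply all of them.
-/

set_option autoImplicit false
set_option linter.unusedSectionVars false
set_option linter.style.haveILetI false

namespace Cfsg.Agent.SU3Pres

open Hermitian PSU3Index Matrix
open Cfsg.Agent.SU3Root (uu ww dd)

variable {F : Type*} [Field F] [Fintype F] {q : ℕ} (C : Ctx F q)

theorem mu_cube (x : Fˣ) : mu C ((x : F) ^ (2 * q + 1)) = (x : F) ^ 3 := by
  rw [mu_pow C (pow_ne_zero _ x.ne_zero), ← pow_mul,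
    show (2 * q + 1) * (2 * q - 1) = 4 * (q ^ 2 - 1) + 3 by
      have := q_two_le C
      have h1 : 1 ≤ q ^ 2 := Nat.one_le_pow _ _ (by omega)
      have h2 : (2 * q + 1) * (2 * q - 1) + 1 = 4 * q ^ 2 := by
        obtain ⟨r, rfl⟩ : ∃ r, q = r + 1 := ⟨q - 1, by omega⟩
        rw [show 2 * (r + 1) - 1 = 2 * r + 1 by omega]; ring
      omega,
    pow_add, pow_mul', ← Units.val_pow_eq_pow_val, ← Units.val_pow_eq_pow_val, pow_card_units C, one_pow,
    Units.val_one, one_mul]

theorem mu_mul (a b : F) : mu C (a * b) = mu C a * mu C b := by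
  simp only [mu, map_mul]; rw [div_mul_div_comm]; ring_nf

theorem norm_mu {l : F} (hl : l ≠ 0) : mu C l * C.σ (mu C l) = nu C l := by
  have hs : C.σ l ≠ 0 := (map_ne_zero C.σ).2 hl
  simp only [mu, nu, map_div₀, map_mul, C.hinv]
  field_simp

theorem b_ne {a b : F} (h : b + C.σ b + a * C.σ a = 0) (ha : a ≠ 0) : b ≠ 0 := by
  rintro rfl
  rw [map_zero, add_zero, zero_add] at h
  exact (mul_eq_zero.1 h).elim ha ((map_ne_zero C.σ).2 ha)

theorem left_eq {a b : F} (h : b + C.σ b + a * C.σ a = 0) (hb : b ≠ 0) :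
    b⁻¹ + C.σ b⁻¹ + -a / b * C.σ (-a / b) = 0 := by
  have hs : C.σ b ≠ 0 := (map_ne_zero C.σ).2 hb
  rw [map_inv₀, map_div₀, map_neg]
  field_simp
  linear_combination h

theorem right_eq {a b : F} (h : b + C.σ b + a * C.σ a = 0) (hb : b ≠ 0) :
    b⁻¹ + C.σ b⁻¹ + -a / C.σ b * C.σ (-a / C.σ b) = 0 := by
  have hs : C.σ b ≠ 0 := (map_ne_zero C.σ).2 hb
  rw [map_inv₀, map_div₀, map_neg, C.hinv]
  field_simp
  linear_combination h

/-- The Bruhat form of a conjugate of a root element by the Weyl element. -/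
theorem w_uEl_w {a b : F} (h : b + C.σ b + a * C.σ a = 0) (hb : b ≠ 0) :
    wEl C * uEl C a b h * wEl C = uEl C (-a / b) b⁻¹ (left_eq C h hb) * wEl C *
      (dH C (Units.mk0 b hb) * uEl C (-a / C.σ b) b⁻¹ (right_eq C h hb)) := by
  have hs : C.σ b ≠ 0 := (map_ne_zero C.σ).2 hb
  refine mat_inj C ?_
  simp only [mat_mul, mat_uEl, mat_wEl, dH_apply, mat_dEl, Units.val_mk0]
  ext i k
  fin_cases i <;> fin_cases k <;>
    simp [uu, ww, dd, Matrix.mul_apply, Fin.sum_univ_three, map_div₀, C.hinv] <;> field_simp <;>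
    first | ring1 | linear_combination h | linear_combination -h

/-- Conjugation of the torus by the Weyl element. -/
theorem w_dH_w (l : Fˣ) : wEl C * dH C l * wEl C =
    dH C (Units.mk0 (C.σ (l : F))⁻¹ (inv_ne_zero ((map_ne_zero C.σ).2 l.ne_zero))) := by
  refine mat_inj C ?_
  have hl := l.ne_zero
  have hs : C.σ (l : F) ≠ 0 := (map_ne_zero C.σ).2 hl
  simp only [mat_mul, mat_wEl, dH_apply, mat_dEl, Units.val_mk0]
  ext i k
  fin_cases i <;> fin_cases k <;>
    simp [ww, dd, Matrix.mul_apply, Fin.sum_univ_three, map_inv₀, C.hinv] <;> field_simp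

/-- The left borel part in the Bruhat form. -/
noncomputable def leftPart {a b : F} (h : b + C.σ b + a * C.σ a = 0) (hb : b ≠ 0) : borel C :=
  ⟨uEl C (-a / b) b⁻¹ (left_eq C h hb), uEl_mem C _⟩

/-- The right borel part in the Bruhat form. -/
noncomputable def rightPart {a b : F} (h : b + C.σ b + a * C.σ a = 0) (hb : b ≠ 0) : borel C :=
  ⟨dH C (Units.mk0 b hb) * uEl C (-a / C.σ b) b⁻¹ (right_eq C h hb), mul_mem (dH_mem C _) (uEl_mem C _)⟩

theorem dH_zpow (l : Fˣ) (i : ℤ) :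
    (⟨dH C (l ^ i), dH_mem C _⟩ : borel C) = ⟨dH C l, dH_mem C l⟩ ^ i :=
  Subtype.ext (map_zpow (dH C) l i)

variable {G : Type*} [Group G]

/-- The data of a group covering the Bruhat decomposition. -/
structure Cover (j : Fˣ) (π : G →* ↥(Cfsg.SU 3 F q)) (ι : borel C →* G) (w : G) : Prop where
  sec : ∀ g, π (ι g) = g
  piw : π w = wEl C
  w2 : w * w = 1
  wh : w * ι ⟨dH C j, dH_mem C j⟩ * w = ι ⟨dH C (j ^ q)⁻¹, dH_mem C _⟩

namespace Cover

variable {C}
variable {j : Fˣ} {π : G →* ↥(Cfsg.SU 3 F q)} {ι : borel C →* G} {w : G} (K : Cover C j π ι w)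

/-- The exact relation at a root element. -/
def Exact (_K : Cover C j π ι w) {a b : F} (h : b + C.σ b + a * C.σ a = 0) (hb : b ≠ 0) : Prop :=
  w * ι ⟨uEl C a b h, uEl_mem C h⟩ * w = ι (leftPart C h hb) * w * ι (rightPart C h hb)

/-- Membership in the two cells. -/
def Mem (_K : Cover C j π ι w) (g : G) : Prop := (∃ b, g = ι b) ∨ ∃ b b', g = ι b * w * ι b'

theorem mem_left {g : G} (c : borel C) (hg : K.Mem g) : K.Mem (ι c * g) := by
  rcases hg with ⟨b, rfl⟩ | ⟨b, b', rfl⟩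
  · exact Or.inl ⟨c * b, by rw [map_mul]⟩
  · exact Or.inr ⟨c * b, b', by rw [map_mul]; simp only [mul_assoc]⟩

theorem mem_right {g : G} (c : borel C) (hg : K.Mem g) : K.Mem (g * ι c) := by
  rcases hg with ⟨b, rfl⟩ | ⟨b, b', rfl⟩
  · exact Or.inl ⟨b * c, by rw [map_mul]⟩
  · exact Or.inr ⟨b, b' * c, by rw [map_mul]; simp only [mul_assoc]⟩

/-- The root element can be moved through the Weyl element. -/
def Sp {a b : F} (h : b + C.σ b + a * C.σ a = 0) : Prop := K.Mem (w * ι ⟨uEl C a b h, uEl_mem C h⟩ * w)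

variable (hj : ∀ t, t ∈ Subgroup.zpowers j)
include K hj

theorem w_torus (l : Fˣ) : ∃ l' : Fˣ, w * ι ⟨dH C l, dH_mem C l⟩ * w = ι ⟨dH C l', dH_mem C l'⟩ ∧
    ι ⟨dH C l', dH_mem C l'⟩ * w = w * ι ⟨dH C l, dH_mem C l⟩ := by
  have winv : w⁻¹ = w := inv_eq_of_mul_eq_one_right K.w2
  obtain ⟨i, hi⟩ := hj l
  change j ^ i = l at hi
  subst hi
  refine ⟨((j ^ q)⁻¹) ^ i, ?_, ?_⟩
  · have e : ∀ x : G, w * x * w = MulAut.conj w x := fun x => by rw [MulAut.conj_apply, winv]
    rw [e, dH_zpow C j i, dH_zpow C (j ^ q)⁻¹ i,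
      map_zpow, map_zpow, map_zpow, ← e, K.wh]
  · have e : ∀ x : G, w * x * w = MulAut.conj w x := fun x => by rw [MulAut.conj_apply, winv]
    rw [dH_zpow C j i, dH_zpow C (j ^ q)⁻¹ i,
      map_zpow, map_zpow, ← K.wh, e, ← map_zpow, MulAut.conj_apply]
    group

theorem conj_form {a b : F} (h : b + C.σ b + a * C.σ a = 0) (l : Fˣ) :
    w * ι ⟨uEl C _ _ (conj_eq C h l.ne_zero), uEl_mem C _⟩ * w =
      w * ι ⟨dH C l, dH_mem C l⟩ * w * (w * ι ⟨uEl C a b h, uEl_mem C h⟩ * w) *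
        (w * ι ⟨dH C l, dH_mem C l⟩ * w)⁻¹ := by
  rw [show (⟨uEl C _ _ (conj_eq C h l.ne_zero), uEl_mem C _⟩ : borel C) =
    ⟨dH C l, dH_mem C l⟩ * ⟨uEl C a b h, uEl_mem C h⟩ * ⟨dH C l, dH_mem C l⟩⁻¹ from Subtype.ext (dH_conj C l h).symm,
    map_mul, map_mul, map_inv, _root_.mul_inv_rev, _root_.mul_inv_rev, inv_eq_of_mul_eq_one_right K.w2]
  simp only [mul_assoc]
  rw [← mul_assoc w w, K.w2, one_mul, ← mul_assoc w w, K.w2, one_mul]

theorem sp_scale {a b : F} {h : b + C.σ b + a * C.σ a = 0} (hs : K.Sp h) (l : Fˣ) :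
    K.Sp (conj_eq C h l.ne_zero) := by
  obtain ⟨l', hl', -⟩ := K.w_torus hj l
  show K.Mem _
  rw [K.conj_form hj h l, hl', ← map_inv]
  exact K.mem_right _ (K.mem_left _ hs)

theorem exact_scale {a b : F} {h : b + C.σ b + a * C.σ a = 0} {hb : b ≠ 0} (he : K.Exact h hb) (l : Fˣ)
    (hb' : nu C (l : F) * b ≠ 0) : K.Exact (conj_eq C h l.ne_zero) hb' := by
  obtain ⟨l', hl', hl''⟩ := K.w_torus hj l
  set D : borel C := ⟨dH C l, dH_mem C l⟩ with hD
  set D' : borel C := ⟨dH C l', dH_mem C l'⟩ with hD'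
  have key : w * ι ⟨uEl C _ _ (conj_eq C h l.ne_zero), uEl_mem C _⟩ * w =
      ι (D' * leftPart C h hb * D'⁻¹) * w * ι (D * rightPart C h hb * D'⁻¹) := by
    rw [K.conj_form hj h l, hl', he]
    simp only [map_mul, map_inv]
    rw [show ι D' * (ι (leftPart C h hb) * w * ι (rightPart C h hb)) * (ι D')⁻¹ =
      ι D' * ι (leftPart C h hb) * (ι D')⁻¹ * (ι D' * w) * ι (rightPart C h hb) * (ι D')⁻¹ by group, hl'']
    simp only [mul_assoc]
  have hsl : C.σ (l : F) ≠ 0 := (map_ne_zero C.σ).2 l.ne_zero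
  have hl'v : (l' : F) = (C.σ (l : F))⁻¹ := by
    have h1 := congrArg π hl'
    rw [map_mul, map_mul, K.piw, K.sec, K.sec] at h1
    have h2 := congrArg (fun g => mat C g 0 0) (h1.symm.trans (w_dH_w C l))
    simpa [D', dH_apply, mat_dEl, dd] using h2
  have hP : D' * leftPart C h hb * D'⁻¹ = leftPart C (conj_eq C h l.ne_zero) hb' := by
    refine Subtype.ext ?_
    show dH C l' * uEl C _ _ (left_eq C h hb) * (dH C l')⁻¹ = _
    rw [dH_conj]
    refine uEl_ext C _ _ ?_ ?_
    · simp only [mu, nu, hl'v, map_inv₀, C.hinv]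
      field_simp
    · simp only [nu, hl'v, map_inv₀, C.hinv]
      field_simp
  have hR : D * rightPart C h hb * D'⁻¹ = rightPart C (conj_eq C h l.ne_zero) hb' := by
    refine Subtype.ext ?_
    have h1 := congrArg π key
    rw [map_mul, map_mul, map_mul, map_mul, K.piw, K.sec, K.sec, K.sec, hP] at h1
    exact mul_left_cancel (h1.symm.trans (w_uEl_w C (conj_eq C h l.ne_zero) hb'))
  show _ = _
  rw [key, hP, hR]

theorem sp_of_exact {a b : F} {h : b + C.σ b + a * C.σ a = 0} {hb : b ≠ 0} (he : K.Exact h hb) : K.Sp h :=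
  Or.inr ⟨_, _, he⟩

theorem sp_congr {a a' b b' : F} (ha : a = a') (hb : b = b') {h : b + C.σ b + a * C.σ a = 0}
    {h' : b' + C.σ b' + a' * C.σ a' = 0} (hs : K.Sp h) : K.Sp h' := by
  subst ha hb; exact hs

/-- The multiplication rule. -/
theorem rule {a b d : F} (h : b + C.σ b + a * C.σ a = 0) (hb : b ≠ 0) (hd : d + C.σ d + 0 * C.σ (0 : F) = 0)
    (hd0 : d ≠ 0) (he : K.Exact h hb) (hez : K.Exact hd hd0)
    {h2 : b⁻¹ + d⁻¹ + C.σ (b⁻¹ + d⁻¹) + -a / C.σ b * C.σ (-a / C.σ b) = 0} (hs : K.Sp h2)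
    {h' : b + d + C.σ (b + d) + a * C.σ a = 0} : K.Sp h' := by
  obtain ⟨l', hl', -⟩ := K.w_torus hj (Units.mk0 b hb)
  have e : (⟨uEl C a (b + d) h', uEl_mem C _⟩ : borel C) = ⟨uEl C a b h, uEl_mem C h⟩ * ⟨uEl C 0 d hd, uEl_mem C hd⟩ :=
    Subtype.ext (by
      show _ = uEl C a b h * uEl C 0 d hd
      rw [uEl_mul]
      exact uEl_ext C _ _ (add_zero a).symm (by ring))
  have e2 : rightPart C h hb * leftPart C hd hd0 =
      ⟨dH C (Units.mk0 b hb), dH_mem C _⟩ * ⟨uEl C _ _ h2, uEl_mem C _⟩ := Subtype.ext (by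
    show dH C (Units.mk0 b hb) * uEl C _ _ (right_eq C h hb) * uEl C _ _ (left_eq C hd hd0) = _
    rw [mul_assoc, uEl_mul]
    exact congrArg (dH C (Units.mk0 b hb) * ·) (uEl_ext C _ _ (by simp) (by simp)))
  show K.Mem _
  rw [e, map_mul]
  have key : w * (ι ⟨uEl C a b h, uEl_mem C h⟩ * ι ⟨uEl C 0 d hd, uEl_mem C hd⟩) * w =
      ι (leftPart C h hb) * (ι ⟨dH C l', dH_mem C l'⟩ * (w * ι ⟨uEl C _ _ h2, uEl_mem C _⟩ * w)) *
        ι (rightPart C hd hd0) := by
    calc _ = w * ι ⟨uEl C a b h, uEl_mem C h⟩ * (w * w) * ι ⟨uEl C 0 d hd, uEl_mem C hd⟩ * w := by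
          rw [K.w2, mul_one, ← mul_assoc w]
      _ = (w * ι ⟨uEl C a b h, uEl_mem C h⟩ * w) * (w * ι ⟨uEl C 0 d hd, uEl_mem C hd⟩ * w) := by
          simp only [mul_assoc]
      _ = ι (leftPart C h hb) * w * ι (rightPart C h hb * leftPart C hd hd0) * w * ι (rightPart C hd hd0) := by
          rw [he, hez, map_mul]; simp only [mul_assoc]
      _ = _ := by
          rw [e2, map_mul, ← hl']
          simp only [mul_assoc]
          rw [← mul_assoc w w, K.w2, one_mul]
  rw [key]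
  exact K.mem_right _ (K.mem_left _ (K.mem_left _ hs))

/-- All root elements can be moved through the Weyl element, given three of them and a central one. -/
theorem sp_all (h4 : 4 ≤ q) {c : F} (hc : c + C.σ c + 1 = 0) (hcd : C.σ (c * ((j : F) * d0 C j)) = c * ((j : F) * d0 C j))
    (hz : K.Exact (d0_eq C (j := j)) (d0_ne C hj h4))
    (hbase : ∀ i < 3, ∀ (h : nu C ((j : F) ^ i) * c + C.σ (nu C ((j : F) ^ i) * c) +
      (j : F) ^ i * C.σ ((j : F) ^ i) = 0) (hb : nu C ((j : F) ^ i) * c ≠ 0), K.Exact h hb)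
    {a b : F} (h : b + C.σ b + a * C.σ a = 0) (hne : a ≠ 0 ∨ b ≠ 0) : K.Sp h := by
  have hd0 := d0_ne C hj h4
  have hσd : C.σ (d0 C j) = -d0 C j := by
    have := d0_eq C (j := j); rw [map_zero, mul_zero, add_zero] at this; linear_combination this
  -- the central elements
  have hcent : ∀ {d : F} (hd : d + C.σ d + 0 * C.σ (0 : F) = 0) (hd1 : d ≠ 0), K.Exact hd hd1 := by
    intro d hd hd1
    have hf : C.σ (d / d0 C j) = d / d0 C j := by
      have h1 : C.σ d = -d := by rw [map_zero, mul_zero, add_zero] at hd; linear_combination hd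
      rw [map_div₀, h1, hσd, neg_div_neg_eq]
    obtain ⟨l, hl⟩ := exists_norm C.hne C.hinv hf
    have hl0 : l ≠ 0 := fun hl0 => by
      rw [hl0, zero_mul, eq_comm, div_eq_zero_iff] at hl
      exact hl.elim hd1 hd0
    have e1 : d = nu C l * d0 C j := by rw [nu, hl, div_mul_cancel₀ _ hd0]
    subst e1
    have := K.exact_scale hj hz (Units.mk0 l hl0) hd1
    simpa only [Exact, Units.val_mk0, mul_zero] using this
  by_cases ha : a = 0
  · subst ha
    exact K.sp_of_exact hj (hcent h (hne.resolve_left (fun h => h rfl)))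
  have hc0 : c ≠ 0 := fun hc0 => by rw [hc0, map_zero, add_zero, zero_add] at hc; exact one_ne_zero hc
  have hcone : c + C.σ c = -1 := by linear_combination hc
  -- the induction along the lines
  have key : ∀ n < q, ∀ {a b : F} (h : b + C.σ b + a * C.σ a = 0), a ≠ 0 →
      C.σ (b * (j : F) ^ n / c) = b * (j : F) ^ n / c → K.Sp h := by
    intro n
    induction n with
    | zero =>
      intro _ a b h ha hfix
      obtain ⟨k, hk⟩ := exists_pow hj a ha
      obtain ⟨s, i, hi, rfl⟩ : ∃ s i, i < 3 ∧ k = 3 * s + i :=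
        ⟨k / 3, k % 3, Nat.mod_lt _ (by norm_num), (Nat.div_add_mod k 3).symm⟩
      set l : Fˣ := (j ^ s) ^ (2 * q + 1) with hl
      have hmu : mu C (l : F) * (j : F) ^ i = a := by
        rw [hl, Units.val_pow_eq_pow_val, mu_cube C, Units.val_pow_eq_pow_val, ← pow_mul, ← pow_add, mul_comm s, hk]
      have hb0 : nu C ((j : F) ^ i) * c ≠ 0 := by
        rw [nu_pow C]; exact mul_ne_zero (pow_ne_zero _ (pow_ne_zero _ j.ne_zero)) hc0
      have h0 : nu C ((j : F) ^ i) * c + C.σ (nu C ((j : F) ^ i) * c) + (j : F) ^ i * C.σ ((j : F) ^ i) = 0 := by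
        rw [map_mul, nu_fixed, nu]
        linear_combination ((j : F) ^ i * C.σ ((j : F) ^ i)) * hc
      have hb : b = nu C (l : F) * (nu C ((j : F) ^ i) * c) := by
        rw [pow_zero, mul_one] at hfix
        have hN : a * C.σ a = nu C (l : F) * nu C ((j : F) ^ i) := by
          rw [← hmu, map_mul, ← norm_mu C l.ne_zero, nu]; ring
        have e2 : b + C.σ b = b / c * (c + C.σ c) := by
          conv_lhs => rw [show b = b / c * c from (div_mul_cancel₀ b hc0).symm, map_mul, hfix]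
          ring
        rw [e2, hcone, hN] at h
        have : b / c = nu C (l : F) * nu C ((j : F) ^ i) := by linear_combination -h
        rw [← mul_assoc, ← this, div_mul_cancel₀ b hc0]
      have := K.sp_scale hj (K.sp_of_exact hj (hbase i hi h0 hb0)) l
      simp only [Sp, hmu, ← hb] at this ⊢
      exact this
    | succ n ih =>
      intro hn a b h ha hfix
      obtain ⟨k, hk⟩ := exists_pow hj a ha
      obtain ⟨s, i, hi, rfl⟩ : ∃ s i, i < 3 ∧ k = 3 * s + i :=
        ⟨k / 3, k % 3, Nat.mod_lt _ (by norm_num), (Nat.div_add_mod k 3).symm⟩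
      set l : Fˣ := (j ^ s) ^ (2 * q + 1) with hl
      have hmu : mu C (l : F) * (j : F) ^ i = a := by
        rw [hl, Units.val_pow_eq_pow_val, mu_cube C, Units.val_pow_eq_pow_val, ← pow_mul, ← pow_add, mul_comm s, hk]
      have hb0 : nu C ((j : F) ^ i) * c ≠ 0 := by
        rw [nu_pow C]; exact mul_ne_zero (pow_ne_zero _ (pow_ne_zero _ j.ne_zero)) hc0
      have h0 : nu C ((j : F) ^ i) * c + C.σ (nu C ((j : F) ^ i) * c) + (j : F) ^ i * C.σ ((j : F) ^ i) = 0 := by
        rw [map_mul, nu_fixed, nu]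
        linear_combination ((j : F) ^ i * C.σ ((j : F) ^ i)) * hc
      have hl0 : nu C (l : F) ≠ 0 := by rw [nu_pow C]; exact pow_ne_zero _ l.ne_zero
      set a' : F := (j : F) ^ i with ha'
      set b0 : F := nu C a' * c with hb0def
      set d : F := b / nu C (l : F) - b0 with hd
      have h' : b0 + d + C.σ (b0 + d) + a' * C.σ a' = 0 := by
        rw [show b0 + d = b / nu C (l : F) by rw [hd]; ring, map_div₀, nu_fixed]
        have hN : a * C.σ a = nu C (l : F) * (a' * C.σ a') := by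
          rw [← hmu, map_mul, ← norm_mu C l.ne_zero]; ring
        rw [hN] at h
        field_simp
        linear_combination h
      have hdk : d + C.σ d + 0 * C.σ (0 : F) = 0 := by
        rw [map_zero, mul_zero, add_zero]
        rw [map_add] at h'
        linear_combination h' - h0
      have hd1 : d ≠ 0 := by
        intro hd1
        have e : b = nu C (l : F) * nu C a' * c := by
          rw [hd, sub_eq_zero, div_eq_iff hl0, hb0def] at hd1
          linear_combination hd1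
        rw [e, show nu C (l : F) * nu C a' * c * (j : F) ^ (n + 1) / c =
          nu C (l : F) * nu C a' * (j : F) ^ (n + 1) by field_simp, map_mul, map_mul, nu_fixed, nu_fixed] at hfix
        have hne : nu C (l : F) * nu C a' ≠ 0 := mul_ne_zero hl0 (by
          rw [nu_pow C, ha']; exact pow_ne_zero _ (pow_ne_zero _ j.ne_zero))
        have := (fixed_iff_dvd C hj (n + 1)).1 (mul_left_cancel₀ hne hfix)
        have := Nat.le_of_dvd (by omega) this
        omega
      have hbne := b_ne C h ha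
      have hu : C.σ (b0 * d * (j : F)) = b0 * d * (j : F) := by
        have e : b0 * d * (j : F) = nu C a' * (d / d0 C j) * (c * ((j : F) * d0 C j)) := by
          rw [hb0def]; field_simp
        have hf : C.σ (d / d0 C j) = d / d0 C j := by
          have h1 : C.σ d = -d := by rw [map_zero, mul_zero, add_zero] at hdk; linear_combination hdk
          rw [map_div₀, h1, hσd, neg_div_neg_eq]
        rw [e, map_mul, map_mul, nu_fixed, hf, hcd]
      have h2 : b0⁻¹ + d⁻¹ + C.σ (b0⁻¹ + d⁻¹) + -a' / C.σ b0 * C.σ (-a' / C.σ b0) = 0 := by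
        have h1 := right_eq C h0 hb0
        have h3 : d⁻¹ + C.σ d⁻¹ = 0 := by
          rw [map_zero, mul_zero, add_zero] at hdk
          rw [map_inv₀, eq_neg_of_add_eq_zero_right hdk, inv_neg, add_neg_cancel]
        rw [map_add]
        linear_combination h1 + h3
      have ha2 : -a' / C.σ b0 ≠ 0 :=
        div_ne_zero (neg_ne_zero.2 (pow_ne_zero _ j.ne_zero)) ((map_ne_zero C.σ).2 hb0)
      have hs2 : K.Sp h2 := by
        refine ih (by omega) h2 ha2 ?_
        have e : (b0⁻¹ + d⁻¹) * (j : F) ^ n / c = b * (j : F) ^ (n + 1) / c / (nu C (l : F) * (b0 * d * (j : F))) := by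
          have hb1 : b = nu C (l : F) * (b0 + d) := by rw [hd]; field_simp; ring
          rw [hb1]
          field_simp
          ring
        rw [e, map_div₀, hfix, map_mul, nu_fixed, hu]
      have hfin := K.sp_scale hj (K.rule hj h0 hb0 hdk hd1 (hbase i hi h0 hb0) (hcent hdk hd1) hs2 (h' := h')) l
      have hbb : nu C (l : F) * (b0 + d) = b := by rw [hd]; field_simp; ring
      exact K.sp_congr hj (by rw [ha', hmu]) hbb hfin
  -- every line is reached
  obtain ⟨k, hk⟩ := exists_pow hj (b / c) (div_ne_zero (b_ne C h ha) hc0)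
  have hq1 : 0 < q + 1 := Nat.succ_pos q
  set n := (q + 1 - k % (q + 1)) % (q + 1) with hn
  have hnk : q + 1 ∣ n + k := by
    refine Nat.dvd_of_mod_eq_zero ?_
    have hk' : k % (q + 1) < q + 1 := Nat.mod_lt _ hq1
    rw [hn, Nat.mod_add_mod]
    refine Nat.dvd_iff_mod_eq_zero.1 ⟨k / (q + 1) + 1, ?_⟩
    have := Nat.div_add_mod k (q + 1)
    rw [Nat.mul_add, Nat.mul_one]
    omega
  have hfx : C.σ (b * (j : F) ^ n / c) = b * (j : F) ^ n / c := by
    rw [show b * (j : F) ^ n / c = b / c * (j : F) ^ n by ring, ← hk, ← pow_add]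
    exact (fixed_iff_dvd C hj _).2 (add_comm n k ▸ hnk)
  refine key n ?_ h ha hfx
  have hlt : n < q + 1 := Nat.mod_lt _ hq1
  refine lt_of_le_of_ne (by omega) fun hnq => ha ?_
  -- the remaining line has trace zero
  rw [hnq] at hfx
  obtain ⟨R, hR⟩ : ∃ R, R = b * (j : F) ^ q / c := ⟨_, rfl⟩
  rw [← hR] at hfx
  have hjq : C.σ ((j : F) ^ (q + 1)) = (j : F) ^ (q + 1) := (fixed_iff_dvd C hj _).2 dvd_rfl
  have eb : b = R / (j : F) ^ (q + 1) * (c * ((j : F) * d0 C j)) / d0 C j := by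
    rw [hR, pow_succ]
    have := j.ne_zero
    field_simp
  have hsk : b + C.σ b = 0 := by
    rw [eb, map_div₀, map_mul, map_div₀, hfx, hjq, hcd, hσd, div_neg, add_neg_cancel]
  rw [hsk, zero_add] at h
  exact (mul_eq_zero.1 h).resolve_right fun e => ha ((map_eq_zero C.σ).1 e)

omit hj in
/-- The two cells are the whole group. -/
theorem bijective_of_gen (hj : ∀ t, t ∈ Subgroup.zpowers j) (hgen : Subgroup.closure (Set.range ι ∪ {w}) = ⊤)
    (hall : ∀ {a b : F} (h : b + C.σ b + a * C.σ a = 0), (a ≠ 0 ∨ b ≠ 0) → K.Sp h) : Function.Bijective π := by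
  have winv : w⁻¹ = w := inv_eq_of_mul_eq_one_right K.w2
  have hmem : ∀ g, K.Mem g := by
    intro g
    have hw : ∀ g, K.Mem g → K.Mem (w * g) := by
      rintro g (⟨b, rfl⟩ | ⟨b, b', rfl⟩)
      · exact Or.inr ⟨1, b, by rw [map_one, one_mul]⟩
      · obtain ⟨a, c, l, hl, h, e, -⟩ := borel_form C b.2
        obtain ⟨l', hl', -⟩ := K.w_torus hj (Units.mk0 l hl)
        rw [show b = ⟨uEl C a c h, uEl_mem C h⟩ * ⟨dH C (Units.mk0 l hl), dH_mem C _⟩ from Subtype.ext e, map_mul,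
          show w * (ι ⟨uEl C a c h, uEl_mem C h⟩ * ι ⟨dH C (Units.mk0 l hl), dH_mem C _⟩ * w * ι b') =
            (w * ι ⟨uEl C a c h, uEl_mem C h⟩ * w) * (w⁻¹ * ι ⟨dH C (Units.mk0 l hl), dH_mem C _⟩ * w) * ι b' by group,
          winv, hl']
        refine K.mem_right _ (K.mem_right _ ?_)
        by_cases h0 : a ≠ 0 ∨ c ≠ 0
        · exact hall h h0
        · push Not at h0
          obtain ⟨rfl, rfl⟩ := h0
          rw [show (⟨uEl C 0 0 h, uEl_mem C h⟩ : borel C) = 1 from Subtype.ext (uEl_one C), map_one, mul_one, K.w2]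
          exact Or.inl ⟨1, (map_one ι).symm⟩
    have hg : g ∈ Subgroup.closure (Set.range ι ∪ {w}) := hgen ▸ Subgroup.mem_top g
    induction hg using Subgroup.closure_induction_left with
    | one => exact Or.inl ⟨1, (map_one ι).symm⟩
    | mul_left y hy g hg ih =>
      rcases hy with ⟨b, rfl⟩ | rfl
      · exact K.mem_left b ih
      · exact hw g ih
    | inv_mul_cancel y hy g hg ih =>
      rcases hy with ⟨b, rfl⟩ | rfl
      · rw [← map_inv]; exact K.mem_left _ ih
      · rw [winv]; exact hw g ih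
  refine ⟨(injective_iff_map_eq_one π).2 fun g hg => ?_, fun s => ?_⟩
  · rcases hmem g with ⟨b, rfl⟩ | ⟨b, b', rfl⟩
    · rw [K.sec] at hg
      rw [show b = 1 from Subtype.ext hg, map_one]
    · exfalso
      rw [map_mul, map_mul, K.sec, K.sec, K.piw] at hg
      apply wEl_not_mem C
      have : wEl C = ((b : ↥(Cfsg.SU 3 F q)))⁻¹ * (b' : ↥(Cfsg.SU 3 F q))⁻¹ := by
        calc wEl C = (b : ↥(Cfsg.SU 3 F q))⁻¹ * ((b : ↥(Cfsg.SU 3 F q)) * wEl C * b') * (b' : ↥(Cfsg.SU 3 F q))⁻¹ := by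
              group
          _ = _ := by rw [hg, mul_one]
      rw [this]
      exact mul_mem (inv_mem b.2) (inv_mem b'.2)
  · by_cases hs : s ∈ borel C
    · exact ⟨ι ⟨s, hs⟩, K.sec _⟩
    · obtain ⟨a, b, h, hk⟩ := bruhat C hs
      refine ⟨ι ⟨uEl C a b h, uEl_mem C h⟩ * w * ι ⟨_, hk⟩, ?_⟩
      rw [map_mul, map_mul, K.sec, K.sec, K.piw, mul_inv_cancel_left]

end Cover

end Cfsg.Agent.SU3Pres
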