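import Cfsg.Agent.Lib.SU3Pres.Root
import Cfsg.Agent.Lib.SU3Pres.Rank

/-!
`SU₃(q)` and `PSU₃(q)`: presentations with three generators and at most 23, respectively 24, relations.
-/

set_option autoImplicit false
set_option linter.unusedSectionVars false
set_option linter.style.haveILetI false

namespace Cfsg.Agent.SU3Pres

open Hermitian PSU3Index SL2Pres

variable {F : Type*} [Field F] [Fintype F] {q : ℕ} (C : Ctx F q)

/-- A surjection of a free group with kernel normally generated by the relators is a presentation. -/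
theorem pres_iso {T : Type*} [Group T] {rels : Finset (FreeGroup (Fin 3))} (φ : FreeGroup (Fin 3) →* T)
    (hs : Function.Surjective φ) (hR : ∀ r ∈ rels, φ r = 1)
    (hK : ∀ g, φ g = 1 → g ∈ Subgroup.normalClosure (rels : Set (FreeGroup (Fin 3)))) :
    Nonempty (PresentedGroup (↑rels : Set (FreeGroup (Fin 3))) ≃* T) :=
  ⟨(QuotientGroup.quotientMulEquivOfEq (le_antisymm (Subgroup.normalClosure_le_normal fun r hr => hR r hr)
      fun g hg => hK g hg)).trans (QuotientGroup.quotientKerEquivOfSurjective φ hs)⟩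

theorem exists_pres (h4 : 4 ≤ q) {j : Fˣ} (hj : ∀ t, t ∈ Subgroup.zpowers j) :
    ∃ rels : Finset (FreeGroup (Fin 3)), rels.card ≤ (if q = 8 then 23 else 19) ∧ (∀ r ∈ rels, ev C j r = 1) ∧
      Function.Surjective (ev C j) ∧
      ∀ g, ev C j g = 1 → g ∈ Subgroup.normalClosure (rels : Set (FreeGroup (Fin 3))) := by
  classical
  obtain ⟨p, a, hp, -, hqa, hcp⟩ := exists_prime_pow C
  haveI := Fact.mk hp
  haveI := hcp
  obtain ⟨L, hL, kL⟩ := exists_root_rels (p := p) C hj hqa h4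
  -- preimages of the stabiliser
  have hpre : ∀ b : borel C, ∃ w ∈ Subgroup.closure ({gX, gH} : Set (FreeGroup (Fin 3))), ev C j w = b := fun b =>
    exists_pre (ev C j) _ (by
      refine borel_le C hj h4 (Subgroup.closure (ev C j '' {gX, gH})) (Subgroup.subset_closure ⟨gX, by simp, ev_gX C j⟩)
        (Subgroup.subset_closure ⟨gH, by simp, ev_gH C j⟩) b.2)
  choose pre hpmem hpev using hpre
  -- the parameter
  obtain ⟨e, he⟩ : ∃ e : F, e = ((j : F) * d0 C j)⁻¹ := ⟨_, rfl⟩
  have hd0 := d0_ne C hj h4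
  have hσd : C.σ (d0 C j) = -d0 C j := by
    have := d0_eq C (j := j); rw [map_zero, mul_zero, add_zero] at this; linear_combination this
  have hT : e + C.σ e ≠ 0 := by
    intro h
    have h1 : C.σ e = -e := by linear_combination h
    rw [he, map_inv₀, map_mul, hσd, ← inv_neg, inv_inj, mul_neg, neg_inj] at h1
    exact not_fixed_one C hj (mul_right_cancel₀ hd0 h1)
  obtain ⟨c, hc⟩ : ∃ c : F, c = -e / (e + C.σ e) := ⟨_, rfl⟩
  have hTf : C.σ (e + C.σ e) = e + C.σ e := by rw [map_add, C.hinv, add_comm]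
  have hc1 : c + C.σ c + 1 = 0 := by
    rw [hc, map_div₀, map_neg, hTf]
    field_simp
    ring
  have hc0 : c ≠ 0 := fun hc0 => by rw [hc0, map_zero, add_zero, zero_add] at hc1; exact one_ne_zero hc1
  have hjd : (j : F) * d0 C j ≠ 0 := mul_ne_zero j.ne_zero hd0
  have hcd : C.σ (c * ((j : F) * d0 C j)) = c * ((j : F) * d0 C j) := by
    have e2 : c * ((j : F) * d0 C j) = -1 / (e + C.σ e) := by
      rw [hc, div_mul_eq_mul_div, neg_mul]
      congr 2
      rw [he, inv_mul_cancel₀ hjd]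
    rw [e2, map_div₀, map_neg, map_one, hTf]
  have hb0 : ∀ i : ℕ, nu C ((j : F) ^ i) * c ≠ 0 := fun i => by
    rw [nu_pow C]; exact mul_ne_zero (pow_ne_zero _ (pow_ne_zero _ j.ne_zero)) hc0
  have h0 : ∀ i : ℕ, nu C ((j : F) ^ i) * c + C.σ (nu C ((j : F) ^ i) * c) +
      (j : F) ^ i * C.σ ((j : F) ^ i) = 0 := fun i => by
    rw [map_mul, nu_fixed, nu]
    linear_combination ((j : F) ^ i * C.σ ((j : F) ^ i)) * hc1
  -- the relators of the Weyl element
  let ex : ∀ {a b : F} (h : b + C.σ b + a * C.σ a = 0) (_ : b ≠ 0), FreeGroup (Fin 3) := fun {a b} h hb =>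
    gW * pre ⟨uEl C a b h, uEl_mem C h⟩ * gW * (pre (leftPart C h hb) * gW * pre (rightPart C h hb))⁻¹
  have hex : ∀ {a b : F} (h : b + C.σ b + a * C.σ a = 0) (hb : b ≠ 0), ev C j (ex h hb) = 1 := fun h hb => by
    simp only [ex, map_mul, map_inv, hpev, ev_gW]
    rw [mul_inv_eq_one, w_uEl_w C h hb]
    rfl
  set Lw : List (FreeGroup (Fin 3)) := gW * gW :: gW * gH * gW * gH ^ q ::
    ex (d0_eq C (j := j)) hd0 :: (List.range 3).map fun i => ex (h0 i) (hb0 i) with hLw
  set rels : Finset (FreeGroup (Fin 3)) := (L ++ Lw).toFinset with hrels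
  have hev : ∀ r ∈ rels, ev C j r = 1 := by
    intro r hr
    simp only [hrels, hLw, List.mem_toFinset, List.mem_append, List.mem_cons, List.mem_map] at hr
    rcases hr with hr | rfl | rfl | rfl | ⟨i, -, rfl⟩
    · exact hL.2 r hr
    · rw [map_mul, ev_gW, wEl_sq C]
    · rw [map_mul, map_mul, map_mul, map_pow, ev_gW, ev_gH, w_dH_w, ← map_pow, ← map_mul]
      rw [show Units.mk0 (C.σ (j : F))⁻¹ (inv_ne_zero ((map_ne_zero C.σ).2 j.ne_zero)) = (j ^ q)⁻¹ from
        Units.ext (by rw [Units.val_mk0, Units.val_inv_eq_inv_val, Units.val_pow_eq_pow_val, C.hσ]),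
        inv_mul_cancel, map_one]
    · exact hex _ _
    · exact hex _ _
  refine ⟨rels, ?_, hev, ?_⟩
  · refine (List.toFinset_card_le _).trans ?_
    have := hL.1
    simp only [hLw, List.length_append, List.length_cons, List.length_map, List.length_range]
    split_ifs at this ⊢ <;> omega
  -- the presented group
  let ψ : FreeGroup (Fin 3) →* PresentedGroup (rels : Set (FreeGroup (Fin 3))) := PresentedGroup.mk _
  let π : PresentedGroup (rels : Set (FreeGroup (Fin 3))) →* ↥(Cfsg.SU 3 F q) :=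
    PresentedGroup.toGroup (f := ![x0 C, dH C j, wEl C]) fun r hr => hev r hr
  have hπ : ∀ g, π (ψ g) = ev C j g := fun g => rfl
  have hψ : ∀ r ∈ L ++ Lw, ψ r = 1 := fun r hr =>
    (QuotientGroup.eq_one_iff r).2 (Subgroup.subset_normalClosure (List.mem_toFinset.2 hr))
  obtain ⟨hmap, hinj⟩ := kL ψ π hπ fun r hr => hψ r (List.mem_append_left _ hr)
  set S := Subgroup.closure ({ψ gX, ψ gH} : Set (PresentedGroup (rels : Set (FreeGroup (Fin 3))))) with hS
  -- the section
  have hbij : Function.Bijective ((π.comp S.subtype).codRestrict (borel C)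
      fun s => hmap.le (Subgroup.mem_map_of_mem π s.2)) := by
    refine ⟨(injective_iff_map_eq_one _).2 fun s hs => Subtype.ext (hinj _ s.2 (congrArg Subtype.val hs)), fun b => ?_⟩
    have hb : (b : ↥(Cfsg.SU 3 F q)) ∈ S.map π := hmap.ge b.2
    obtain ⟨s, hs, hs'⟩ := hb
    exact ⟨⟨s, hs⟩, Subtype.ext hs'⟩
  let E := MulEquiv.ofBijective _ hbij
  let ι : borel C →* PresentedGroup (rels : Set (FreeGroup (Fin 3))) := S.subtype.comp E.symm.toMonoidHom
  have hsec : ∀ b, π (ι b) = (b : ↥(Cfsg.SU 3 F q)) := fun b => congrArg Subtype.val (E.apply_symm_apply b)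
  have hιS : ∀ b, ι b ∈ S := fun b => (E.symm b).2
  have huniq : ∀ (b : borel C) u, u ∈ S → π u = b → ι b = u := fun b u hu hub => by
    have h1 := hinj (ι b * u⁻¹) (mul_mem (hιS b) (inv_mem hu)) (by rw [map_mul, map_inv, hsec, hub, mul_inv_cancel])
    exact mul_inv_eq_one.1 h1
  have hpS : ∀ b, ψ (pre b) ∈ S := fun b => by
    have := map_mem ψ (hpmem b)
    rwa [Set.image_pair] at this
  have hιp : ∀ b, ι b = ψ (pre b) := fun b => huniq b _ (hpS b) (by rw [hπ, hpev])
  have hgW : ψ gW * ψ gW = 1 := by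
    rw [← map_mul]; exact hψ _ (List.mem_append_right _ (by simp [hLw]))
  have K : Cover C j π ι (ψ gW) := by
    refine ⟨hsec, by rw [hπ, ev_gW], hgW, ?_⟩
    rw [huniq ⟨dH C j, dH_mem C j⟩ (ψ gH) (Subgroup.subset_closure (by simp)) (by rw [hπ, ev_gH]),
      huniq ⟨dH C (j ^ q)⁻¹, dH_mem C _⟩ ((ψ gH) ^ q)⁻¹ (inv_mem (pow_mem (Subgroup.subset_closure (by simp)) q))
        (by simp [hπ, ev_gH])]
    refine eq_inv_of_mul_eq_one_left ?_
    rw [← map_pow, ← map_mul, ← map_mul, ← map_mul]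
    exact hψ _ (List.mem_append_right _ (by simp [hLw]))
  have hexact : ∀ {a b : F} (h : b + C.σ b + a * C.σ a = 0) (hb : b ≠ 0), ψ (ex h hb) = 1 → K.Exact h hb := by
    intro a b h hb hr
    show _ = _
    simp only [ex, map_mul, map_inv, mul_inv_eq_one] at hr
    simpa only [hιp] using hr
  have hz : K.Exact (d0_eq C (j := j)) hd0 := hexact _ _ (hψ _ (List.mem_append_right _ (by simp [hLw])))
  have hbase : ∀ i < 3, ∀ (h : nu C ((j : F) ^ i) * c + C.σ (nu C ((j : F) ^ i) * c) +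
      (j : F) ^ i * C.σ ((j : F) ^ i) = 0) (hb : nu C ((j : F) ^ i) * c ≠ 0), K.Exact h hb := fun i hi _ _ => by
    refine hexact (h0 i) (hb0 i) (hψ _ (List.mem_append_right _ ?_))
    simp only [hLw, List.mem_cons, List.mem_map, List.mem_range]
    exact Or.inr (Or.inr (Or.inr ⟨i, hi, rfl⟩))
  have hgen : Subgroup.closure (Set.range ι ∪ {ψ gW}) = ⊤ := by
    rw [eq_top_iff, ← PresentedGroup.closure_range_of, Subgroup.closure_le]
    rintro _ ⟨i, rfl⟩
    have hS' : ∀ u ∈ S, u ∈ Subgroup.closure (Set.range ι ∪ {ψ gW}) := fun u hu => by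
      refine Subgroup.subset_closure (Or.inl ⟨⟨π u, hmap.le (Subgroup.mem_map_of_mem π hu)⟩, ?_⟩)
      exact huniq _ u hu rfl
    fin_cases i
    · exact hS' (ψ gX) (Subgroup.subset_closure (by simp))
    · exact hS' (ψ gH) (Subgroup.subset_closure (by simp))
    · exact Subgroup.subset_closure (Or.inr rfl)
  have hB := K.bijective_of_gen hj hgen fun h hne => K.sp_all hj h4 hc1 hcd hz hbase h hne
  refine ⟨fun s => ?_, fun g hg => ?_⟩
  · obtain ⟨u, hu⟩ := hB.2 s
    obtain ⟨g, rfl⟩ := PresentedGroup.mk_surjective _ u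
    exact ⟨g, hu⟩
  · have : ψ g = 1 := hB.1 (by rw [hπ, hg, map_one])
    exact (QuotientGroup.eq_one_iff g).1 this

include C in
theorem center_cyclic : IsCyclic ↥(Subgroup.center ↥(Cfsg.SU 3 F q)) := by
  let f : ↥(Subgroup.center ↥(Cfsg.SU 3 F q)) →* F :=
    (lam C).comp (Subgroup.inclusion (center_le_borel C))
  refine isCyclic_of_subgroup_isDomain f ?_
  intro z z' e
  have hd : ∀ z : ↥(Subgroup.center ↥(Cfsg.SU 3 F q)), mat C z.1 = Matrix.diagonal fun _ => f z := fun z => by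
    obtain ⟨c, hc⟩ := SU3Root.scalar_of_mem_center C.hne C.hinv C.hσ C.hq z.2
    have e : mat C z.1 = Matrix.diagonal fun _ => c := by
      rw [mat, hc, Matrix.mul_assoc, ← Matrix.scalar_apply, (Matrix.scalar_commute c (Commute.all c) _).eq,
        ← Matrix.mul_assoc, C.fr.hQP, Matrix.one_mul]
    rw [e]
    refine congrArg _ (funext fun _ => ?_)
    show c = mat C z.1 0 0
    rw [e, Matrix.diagonal_apply_eq]
  exact Subtype.ext (mat_inj C (by rw [hd, hd, e]))

theorem main (hF : Fintype.card F = q ^ 2) (h2 : q ≠ 2) (h3 : q ≠ 3) (h5 : q ≠ 5) :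
    (∃ rels : Finset (FreeGroup (Fin 3)), rels.card ≤ 23 ∧
      Nonempty (PresentedGroup (↑rels : Set (FreeGroup (Fin 3))) ≃* ↥(Cfsg.SU 3 F q))) ∧
    (∃ rels : Finset (FreeGroup (Fin 3)), rels.card ≤ 24 ∧
      Nonempty (PresentedGroup (↑rels : Set (FreeGroup (Fin 3))) ≃* Cfsg.PSU 3 F q)) := by
  classical
  obtain ⟨C⟩ := exists_ctx hF
  have h4 : 4 ≤ q := by have := q_two_le C; omega
  obtain ⟨j, hj⟩ := IsCyclic.exists_generator (α := Fˣ)
  obtain ⟨rels, hcard, hev, hsurj, hker⟩ := exists_pres C h4 hj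
  have hcard : rels.card ≤ 23 := hcard.trans (by split_ifs <;> omega)
  refine ⟨⟨rels, hcard, pres_iso (ev C j) hsurj hev hker⟩, ?_⟩
  haveI := center_cyclic C
  obtain ⟨⟨z, hz⟩, hgen⟩ := IsCyclic.exists_generator (α := ↥(Subgroup.center ↥(Cfsg.SU 3 F q)))
  obtain ⟨w, hw⟩ := hsurj z
  refine ⟨insert w rels, (Finset.card_insert_le _ _).trans (by omega),
    pres_iso ((QuotientGroup.mk' (Subgroup.center ↥(Cfsg.SU 3 F q))).comp (ev C j))
      ((QuotientGroup.mk'_surjective _).comp hsurj) ?_ ?_⟩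
  · intro r hr
    rw [MonoidHom.comp_apply, QuotientGroup.mk'_apply, QuotientGroup.eq_one_iff]
    rcases Finset.mem_insert.1 hr with rfl | hr
    · rw [hw]; exact hz
    · rw [hev r hr]; exact one_mem _
  · intro g hg
    rw [MonoidHom.comp_apply, QuotientGroup.mk'_apply, QuotientGroup.eq_one_iff] at hg
    obtain ⟨k, hk⟩ := hgen ⟨_, hg⟩
    have hk' : z ^ k = ev C j g := congrArg Subtype.val hk
    have h1 : g * (w ^ k)⁻¹ ∈ Subgroup.normalClosure (rels : Set (FreeGroup (Fin 3))) :=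
      hker _ (by rw [map_mul, map_inv, map_zpow, hw, hk', mul_inv_cancel])
    have hmono : Subgroup.normalClosure (rels : Set (FreeGroup (Fin 3))) ≤
        Subgroup.normalClosure ((insert w rels : Finset _) : Set (FreeGroup (Fin 3))) :=
      Subgroup.normalClosure_mono (by simp)
    have hwm : w ∈ Subgroup.normalClosure ((insert w rels : Finset _) : Set (FreeGroup (Fin 3))) :=
      Subgroup.subset_normalClosure (by simp)
    have := mul_mem (hmono h1) (zpow_mem hwm k)
    rwa [inv_mul_cancel_right] at this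

end Cfsg.Agent.SU3Pres
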