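import Cfsg.Agent.Lib.SU3Pres.Field
import Cfsg.Agent.Lib.SL2Pres.Additive

/-!
The root group and the torus of `SU₃(q)`: multiplication, conjugation and generation.
-/

set_option autoImplicit false
set_option linter.unusedSectionVars false
set_option linter.style.haveILetI false

namespace Cfsg.Agent.SU3Pres

open Hermitian PSU3Index Matrix SL2Pres
open Cfsg.Agent.SU3Root (uu ww dd)
open scoped commutatorElement

variable {F : Type*} [Field F] [Fintype F] {q : ℕ} (C : Ctx F q)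

theorem uEl_ext {a b a' b' : F} (h : b + C.σ b + a * C.σ a = 0) (h' : b' + C.σ b' + a' * C.σ a' = 0)
    (ea : a = a') (eb : b = b') : uEl C a b h = uEl C a' b' h' := by
  subst ea eb; rfl

theorem uEl_sum {a b a' b' : F} (h : b + C.σ b + a * C.σ a = 0) (h' : b' + C.σ b' + a' * C.σ a' = 0) :
    b + b' - C.σ a * a' + C.σ (b + b' - C.σ a * a') + (a + a') * C.σ (a + a') = 0 := by
  simp only [map_add, map_sub, map_mul, C.hinv]
  linear_combination h + h'

theorem uEl_mul {a b a' b' : F} (h : b + C.σ b + a * C.σ a = 0) (h' : b' + C.σ b' + a' * C.σ a' = 0) :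
    uEl C a b h * uEl C a' b' h' = uEl C (a + a') (b + b' - C.σ a * a') (uEl_sum C h h') :=
  mat_inj C (by rw [mat_mul, mat_uEl, mat_uEl, mat_uEl, uu_mul])

theorem zero_eq : (0 : F) + C.σ 0 + 0 * C.σ (0 : F) = 0 := by simp

theorem uEl_one : uEl C 0 0 (zero_eq C) = 1 := mat_inj C (by
  rw [mat_uEl, mat_one]
  ext i k
  fin_cases i <;> fin_cases k <;> simp [uu])

theorem neg_eq {a b : F} (h : b + C.σ b + a * C.σ a = 0) :
    C.σ b + C.σ (C.σ b) + -a * C.σ (-a) = 0 := by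
  rw [C.hinv, map_neg, neg_mul_neg]
  linear_combination h

theorem uEl_inv {a b : F} (h : b + C.σ b + a * C.σ a = 0) :
    (uEl C a b h)⁻¹ = uEl C (-a) (C.σ b) (neg_eq C h) :=
  inv_eq_of_mul_eq_one_right (by
    rw [uEl_mul, ← uEl_one C]
    exact uEl_ext C _ _ (add_neg_cancel a) (by linear_combination h))

/-- The torus. -/
def dH : Fˣ →* ↥(Cfsg.SU 3 F q) where
  toFun l := dEl C l l.ne_zero
  map_one' := mat_inj C (by rw [mat_dEl, mat_one, Units.val_one, dd_one])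
  map_mul' a b := mat_inj C (by rw [mat_mul, mat_dEl, mat_dEl, mat_dEl, dd_mul, Units.val_mul])

theorem dH_apply (l : Fˣ) : dH C l = dEl C l l.ne_zero := rfl

theorem dEl_eq {l : F} (hl : l ≠ 0) : dEl C l hl = dH C (Units.mk0 l hl) := rfl

theorem conj_eq {a b : F} (h : b + C.σ b + a * C.σ a = 0) {l : F} (hl : l ≠ 0) :
    nu C l * b + C.σ (nu C l * b) + mu C l * a * C.σ (mu C l * a) = 0 := by
  have e : mu C l * C.σ (mu C l) = nu C l := by
    have hs : C.σ l ≠ 0 := (map_ne_zero C.σ).2 hl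
    simp only [mu, nu, map_div₀, map_mul, C.hinv]
    field_simp
  rw [map_mul C.σ, map_mul C.σ, nu_fixed]
  linear_combination (nu C l) * h + (a * C.σ a) * e

theorem dH_conj (l : Fˣ) {a b : F} (h : b + C.σ b + a * C.σ a = 0) :
    dH C l * uEl C a b h * (dH C l)⁻¹ = uEl C (mu C l * a) (nu C l * b) (conj_eq C h l.ne_zero) := by
  rw [mul_inv_eq_iff_eq_mul]
  exact mat_inj C (by rw [mat_mul, mat_mul, mat_uEl, mat_uEl, dH_apply, mat_dEl, dd_uu C l.ne_zero])

theorem cj_uEl (l : Fˣ) (k : ℤ) {a b : F} (h : b + C.σ b + a * C.σ a = 0) :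
    cj (uEl C a b h) (dH C l) k = uEl C (mu C (l ^ k : Fˣ) * a) (nu C (l ^ k : Fˣ) * b)
      (conj_eq C h (l ^ k : Fˣ).ne_zero) := by
  rw [cj, ← map_zpow, dH_conj]

theorem comm_eq {a a' : F} :
    C.σ a' * a - C.σ a * a' + C.σ (C.σ a' * a - C.σ a * a') + 0 * C.σ (0 : F) = 0 := by
  simp only [map_sub, map_mul, C.hinv, map_zero]
  ring

theorem uEl_comm {a b a' b' : F} (h : b + C.σ b + a * C.σ a = 0) (h' : b' + C.σ b' + a' * C.σ a' = 0) :
    ⁅uEl C a b h, uEl C a' b' h'⁆ = uEl C 0 (C.σ a' * a - C.σ a * a') (comm_eq C) := by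
  rw [commutatorElement_def, uEl_inv, uEl_inv, uEl_mul, uEl_mul, uEl_mul]
  refine uEl_ext C _ _ (by ring) ?_
  simp only [map_add, map_neg]
  linear_combination h + h'

/-- An additive subgroup containing the powers of a generator is everything. -/
theorem add_top {B : F} (hB : Algebra.adjoin ℤ {B} = (⊤ : Subalgebra ℤ F)) (A : AddSubgroup F)
    (hA : ∀ i : ℕ, B ^ i ∈ A) (t : F) : t ∈ A := by
  have ht : t ∈ Algebra.adjoin ℤ {B} := hB ▸ Algebra.mem_top
  rw [Algebra.adjoin_singleton_eq_range_aeval] at ht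
  obtain ⟨P, rfl⟩ := ht
  change Polynomial.aeval B P ∈ A
  rw [Polynomial.aeval_eq_sum_range]
  exact sum_mem fun i _ => zsmul_mem (hA i) _

/-- The commutator value. -/
def d0 (j : Fˣ) : F := C.σ (mu C (j : F)) - mu C (j : F)

variable {j : Fˣ} (hj : ∀ t, t ∈ Subgroup.zpowers j)

theorem d0_eq : d0 C j + C.σ (d0 C j) + 0 * C.σ (0 : F) = 0 := by
  simp only [d0, map_sub, C.hinv, map_zero]
  ring

include hj in
theorem d0_ne (h4 : 4 ≤ q) : d0 C j ≠ 0 := by
  intro h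
  have hfix : C.σ (mu C (j : F)) = mu C (j : F) := sub_eq_zero.1 h
  have hA := add_top (adjoin_mu C hj h4) (fixed C.σ).toSubring.toAddSubgroup (fun i => by
    show C.σ _ = _
    rw [map_pow, hfix]) (j : F)
  exact not_fixed_one C hj hA

theorem exists_b1 : ∃ b : F, b + C.σ b + 1 * C.σ (1 : F) = 0 := by
  obtain ⟨b, hb⟩ := exists_trace C.hne C.hinv (x := -1) (by rw [map_neg, map_one])
  exact ⟨b, by rw [map_one, one_mul]; linear_combination hb⟩

/-- The root element. -/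
noncomputable def x0 : ↥(Cfsg.SU 3 F q) := uEl C 1 (exists_b1 C).choose (exists_b1 C).choose_spec

/-- The central root element. -/
def z0 (j : Fˣ) : ↥(Cfsg.SU 3 F q) := uEl C 0 (d0 C j) (d0_eq C)

theorem z0_comm (j : Fˣ) : ⁅x0 C, dH C j * x0 C * (dH C j)⁻¹⁆ = z0 C j := by
  rw [x0, dH_conj, uEl_comm, z0]
  exact uEl_ext C _ _ rfl (by rw [map_one, one_mul, mul_one, mul_one, d0])

theorem cj_x0 (j : Fˣ) (k : ℤ) :
    cj (x0 C) (dH C j) k = uEl C (mu C (j ^ k : Fˣ) * 1) (nu C (j ^ k : Fˣ) * (exists_b1 C).choose)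
      (conj_eq C (exists_b1 C).choose_spec (j ^ k : Fˣ).ne_zero) := cj_uEl C j k _

include hj in
/-- The centre of the root group is generated by the conjugates of the central root element. -/
theorem centre_mem (h4 : 4 ≤ q) {s : F} (hs0 : s + C.σ s + 0 * C.σ (0 : F) = 0)
    (S : Subgroup ↥(Cfsg.SU 3 F q)) (hz : ∀ k : ℤ, cj (z0 C j) (dH C j) k ∈ S) : uEl C 0 s hs0 ∈ S := by
  by_cases h0 : s = 0
  · subst h0
    rw [uEl_one]; exact one_mem _
  have hd := d0_ne C hj h4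
  have hf : C.σ (s / d0 C j) = s / d0 C j := by
    have h1 : C.σ s = -s := by rw [map_zero, mul_zero, add_zero] at hs0; linear_combination hs0
    have h2 : C.σ (d0 C j) = -d0 C j := by
      have := d0_eq C (j := j); rw [map_zero, mul_zero, add_zero] at this; linear_combination this
    rw [map_div₀, h1, h2, neg_div_neg_eq]
  obtain ⟨w, hw⟩ := exists_norm C.hne C.hinv hf
  have hw0 : w ≠ 0 := fun hw0 => by
    rw [hw0, zero_mul, eq_comm, div_eq_zero_iff] at hw
    exact hw.elim h0 hd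
  obtain ⟨i, hi⟩ := hj (Units.mk0 w hw0)
  have := hz i
  rw [z0, cj_uEl] at this
  refine Eq.subst (motive := (· ∈ S)) (uEl_ext C _ _ (mul_zero _) ?_) this
  change j ^ i = _ at hi
  rw [hi, Units.val_mk0, nu, hw, div_mul_cancel₀ _ hd]

theorem muU_zpow (j : Fˣ) (β : ℤ) (i : ℕ) :
    mu C ((j ^ ((i : ℤ) * β) : Fˣ) : F) = ((muU C j ^ β : Fˣ) : F) ^ i := by
  rw [← muU_val, map_zpow, mul_comm, _root_.zpow_mul, zpow_natCast, Units.val_pow_eq_pow_val]

include hj in
/-- The root group is generated by the central conjugates and a progression of conjugates of the root element. -/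
theorem rad_le_of (h4 : 4 ≤ q) (β : ℤ)
    (hB : Algebra.adjoin ℤ {((muU C j ^ β : Fˣ) : F)} = (⊤ : Subalgebra ℤ F))
    (S : Subgroup ↥(Cfsg.SU 3 F q)) (hx : ∀ i : ℕ, cj (x0 C) (dH C j) ((i : ℤ) * β) ∈ S)
    (hz : ∀ k : ℤ, cj (z0 C j) (dH C j) k ∈ S) : rad C ≤ S := by
  let A : AddSubgroup F :=
    { carrier := {a | ∃ b h, uEl C a b h ∈ S}
      zero_mem' := ⟨0, zero_eq C, by rw [uEl_one]; exact one_mem _⟩
      add_mem' := by
        rintro a a' ⟨b, h, hm⟩ ⟨b', h', hm'⟩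
        exact ⟨_, uEl_sum C h h', by rw [← uEl_mul C h h']; exact mul_mem hm hm'⟩
      neg_mem' := by
        rintro a ⟨b, h, hm⟩
        exact ⟨_, neg_eq C h, by rw [← uEl_inv C h]; exact inv_mem hm⟩ }
  have hA : ∀ a, a ∈ A := add_top hB A fun i => by
    have := hx i
    rw [cj_x0] at this
    refine ⟨_, _, Eq.subst (motive := (· ∈ S)) (uEl_ext C _ ?_ ?_ rfl) this⟩
    · have := conj_eq C (exists_b1 C).choose_spec (j ^ ((i : ℤ) * β) : Fˣ).ne_zero
      rwa [mul_one, muU_zpow] at this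
    · rw [mul_one, muU_zpow]
  intro g hg
  obtain ⟨a, b, h, rfl⟩ := rad_form C hg
  obtain ⟨b', h', hm⟩ := hA a
  obtain ⟨s, hs⟩ : ∃ s, s = b - b' := ⟨_, rfl⟩
  have hs0 : s + C.σ s + 0 * C.σ (0 : F) = 0 := by
    rw [hs, map_sub, map_zero, mul_zero, add_zero]; linear_combination h - h'
  have e : uEl C a b h = uEl C a b' h' * uEl C 0 s hs0 := by
    rw [uEl_mul]
    exact uEl_ext C _ _ (add_zero a).symm (by rw [hs, mul_zero]; ring)
  rw [e]
  exact mul_mem hm (centre_mem C hj h4 hs0 S hz)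

include hj in
/-- The root group is generated by the conjugates of the two root elements. -/
theorem rad_le (h4 : 4 ≤ q) (S : Subgroup ↥(Cfsg.SU 3 F q)) (hx : ∀ k : ℤ, cj (x0 C) (dH C j) k ∈ S)
    (hz : ∀ k : ℤ, cj (z0 C j) (dH C j) k ∈ S) : rad C ≤ S :=
  rad_le_of C hj h4 1 (by rw [zpow_one, muU_val]; exact adjoin_mu C hj h4) S (fun _ => hx _) hz

theorem x0_mem : x0 C ∈ rad C := uEl_mem_rad C _

theorem z0_mem (j : Fˣ) : z0 C j ∈ rad C := uEl_mem_rad C _

theorem dH_mem (l : Fˣ) : dH C l ∈ borel C := dEl_mem C _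

theorem rad_cj {g : ↥(Cfsg.SU 3 F q)} (hg : g ∈ rad C) (l : Fˣ) (k : ℤ) : cj g (dH C l) k ∈ rad C :=
  rad_conj C (zpow_mem (dH_mem C l) k) hg

include hj in
theorem borel_le (h4 : 4 ≤ q) (S : Subgroup ↥(Cfsg.SU 3 F q)) (hx : x0 C ∈ S) (hh : dH C j ∈ S) :
    borel C ≤ S := by
  have hc : ∀ g ∈ S, ∀ k : ℤ, cj g (dH C j) k ∈ S := fun g hg k =>
    mul_mem (mul_mem (zpow_mem hh k) hg) (inv_mem (zpow_mem hh k))
  have hz : z0 C j ∈ S := by
    rw [← z0_comm, commutatorElement_def]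
    have h2 : dH C j * x0 C * (dH C j)⁻¹ ∈ S := mul_mem (mul_mem hh hx) (inv_mem hh)
    exact mul_mem (mul_mem (mul_mem hx h2) (inv_mem hx)) (inv_mem h2)
  intro g hg
  obtain ⟨a, b, l, hl, h, rfl, -⟩ := borel_form C hg
  refine mul_mem (rad_le C hj h4 S (fun k => hc _ hx k) (fun k => hc _ hz k) (uEl_mem_rad C h)) ?_
  obtain ⟨i, hi⟩ := hj (Units.mk0 l hl)
  rw [dEl_eq, ← hi, map_zpow]
  exact zpow_mem hh i

end Cfsg.Agent.SU3Pres
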