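import Cfsg.Agent.Lib.SU3Pres.Words

/-!
Few relations between a root element and a torus element presenting the stabiliser of an isotropic line.
-/

set_option autoImplicit false
set_option linter.unusedSectionVars false
set_option linter.style.haveILetI false

namespace Cfsg.Agent.SU3Pres

open Hermitian PSU3Index SL2Pres Polynomial
open scoped commutatorElement

variable {F : Type*} [Field F] [Fintype F] {q : ℕ} (C : Ctx F q)

/-- A list of words killed by the evaluation and at most so long. -/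
def Rels (j : Fˣ) (n : ℕ) (L : List (FreeGroup (Fin 3))) : Prop :=
  L.length ≤ n ∧ ∀ r ∈ L, ev C j r = 1

theorem Rels.append {j : Fˣ} {m n : ℕ} {L L' : List (FreeGroup (Fin 3))} (h : Rels C j m L) (h' : Rels C j n L') :
    Rels C j (m + n) (L ++ L') :=
  ⟨by rw [List.length_append]; exact Nat.add_le_add h.1 h'.1, fun r hr =>
    (List.mem_append.1 hr).elim (h.2 r) (h'.2 r)⟩

theorem image_cj_union {P H : Type*} [Group P] [Group H] (φ : P →* H) (x z h : P) (f : ℤ → ℤ) :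
    φ '' ((Set.range fun i => cj x h (f i)) ∪ Set.range fun k : ℤ => cj z h k) =
      (Set.range fun i => cj (φ x) (φ h) (f i)) ∪ Set.range fun k : ℤ => cj (φ z) (φ h) k := by
  rw [Set.image_union, image_cj φ x h f, image_cj φ z h (fun k => k)]

theorem image_cj_Iio {P H : Type*} [Group P] [Group H] (φ : P →* H) (x h : P) (m : ℕ) :
    φ '' ((fun i : ℕ => cj x h i) '' Set.Iio m) = (fun i : ℕ => cj (φ x) (φ h) i) '' Set.Iio m := by
  rw [Set.image_image]; exact congrArg (· '' _) (funext fun i => map_cj φ _ _ _)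

variable {j : Fˣ} (hj : ∀ t, t ∈ Subgroup.zpowers j) {p a : ℕ} [Fact p.Prime] [CharP F p]
include hj

theorem gK_ne_one (h4 : 4 ≤ q) : nu C (j : F) ≠ 1 := by
  rw [nu_pow C, ← Units.val_pow_eq_pow_val, ne_eq, Units.val_eq_one, ← orderOf_dvd_iff_pow_eq_one, ord_j C hj]
  intro h
  have := Nat.le_of_dvd (by omega) h
  have : q * 4 ≤ q ^ 2 := by rw [pow_two]; exact Nat.mul_le_mul_left q h4
  omega

theorem gK_ne_neg_one (h4 : 4 ≤ q) : 1 + gK C j ≠ 0 := by
  intro h
  have h' : nu C (j : F) = -1 := by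
    have := congrArg Subtype.val h
    change 1 + nu C (j : F) = 0 at this
    linear_combination this
  have h2 : (nu C (j : F)) ^ 2 = 1 := by rw [h']; norm_num
  rw [nu_pow C, ← pow_mul, ← Units.val_pow_eq_pow_val, Units.val_eq_one, ← orderOf_dvd_iff_pow_eq_one,
    ord_j C hj] at h2
  have := Nat.le_of_dvd (by omega) h2
  have : q * 4 ≤ q ^ 2 := by rw [pow_two]; exact Nat.mul_le_mul_left q h4
  omega

theorem exists_zrels (h4 : 4 ≤ q) :
    ∃ (L : List (FreeGroup (Fin 3))) (α : ℤ) (f : ℤ[X]), Rels C j 4 L ∧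
      ∀ {G : Type} [Group G] (ψ : FreeGroup (Fin 3) →* G), (∀ r ∈ L, ψ r = 1) →
        ZRel C j p (ψ gZ) (ψ gH) α f := by
  haveI := charP_fixed C (p := p)
  haveI := Fintype.ofFinite (fixed C.σ)
  have hne := gK_ne_neg_one C hj h4
  obtain ⟨w, hw⟩ := exists_norm C.hne C.hinv (x := ((1 + gK C j : fixed C.σ) : F))
    ((mem_fixed (σ := C.σ)).1 (1 + gK C j).2)
  have hw0 : w ≠ 0 := fun h => hne (Subtype.ext (by rw [← hw, h, zero_mul]; rfl))
  obtain ⟨α, hα'⟩ := hj (Units.mk0 w hw0)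
  change j ^ α = _ at hα'
  have hα : gK C j ^ α = 1 + gK C j := Subtype.ext (by rw [gK_zpow, hα', Units.val_mk0, nu, hw])
  obtain ⟨f, hf0, hf⟩ := exists_minimal_lift p (gK C j)
  refine ⟨[⁅gZ, cj gZ gH 1⁆, cj gZ gH α * (gZ * cj gZ gH 1)⁻¹, gZ ^ p, word gZ gH 1 f], α, f, ⟨le_rfl, ?_⟩, ?_⟩
  · intro r hr
    simp only [List.mem_cons, List.not_mem_nil, or_false] at hr
    rcases hr with rfl | rfl | rfl | rfl
    · rw [map_commutatorElement, map_cj, ev_gZ, ev_gH]
      obtain ⟨_, e⟩ := hasC_cj C j 1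
      obtain ⟨_, e'⟩ := hasC_z0 C j
      rw [e, e', uEl_comm, ← uEl_one C]
      exact uEl_ext C _ _ rfl (by simp)
    · rw [map_mul, map_inv, map_mul, map_cj, map_cj, ev_gZ, ev_gH, mul_inv_eq_one]
      refine hasC_unique C (hasC_cj C j α) ?_
      have := hasC_mul C (hasC_z0 C j) (hasC_cj C j 1)
      rwa [zpow_one, ← show ((gK C j ^ α : fixed C.σ) : F) = 1 + ((gK C j : fixed C.σ) : F) by rw [hα]; rfl] at this
    · rw [map_pow, ev_gZ]
      refine hasC_eq_one C (j := j) ?_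
      have := hasC_pow C (hasC_z0 C j) p
      rwa [CharP.cast_eq_zero, zero_mul] at this
    · rw [map_word, ev_gZ, ev_gH]
      refine hasC_eq_one C (j := j) ?_
      have := hasC_word C j f
      rw [hf0] at this
      exact this
  · intro G _ ψ h
    simp only [List.mem_cons, List.not_mem_nil, or_false, forall_eq_or_imp, forall_eq] at h
    obtain ⟨h1, h2, h3, h4⟩ := h
    rw [map_commutatorElement, commutatorElement_eq_one_iff_commute, map_cj] at h1
    rw [map_mul, map_inv, map_mul, map_cj, map_cj, mul_inv_eq_one] at h2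
    rw [map_pow] at h3
    rw [map_word] at h4
    exact ⟨hα, hf, h1, h2, h3, h4⟩

theorem exists_crels (hqa : q = p ^ a) (h4 : 4 ≤ q) (h5 : q ≠ 5) (h8 : q ≠ 8) :
    ∃ L : List (FreeGroup (Fin 3)), Rels C j 3 L ∧
      ∀ {G : Type} [Group G] (ψ : FreeGroup (Fin 3) →* G), (∀ r ∈ L, ψ r = 1) → IsOfFinOrder (ψ gH) →
        ∀ {α : ℤ} {f : ℤ[X]}, ZRel C j p (ψ gZ) (ψ gH) α f → ∀ k, Commute (ψ gX) (cj (ψ gZ) (ψ gH) k) := by
  set m := q - 1 with hm
  set T : Set (FreeGroup (Fin 3)) :=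
    (Set.range fun i : ℤ => cj gX gH (i * (m : ℤ))) ∪ Set.range (fun k : ℤ => cj gZ gH k) with hT
  obtain ⟨w, hw, e⟩ := exists_pre (ev C j) T (s := cj (x0 C) (dH C j) 1) (by
    rw [hT, image_cj_union, ev_gX, ev_gH, ev_gZ]
    refine rad_le_of C hj h4 (m : ℤ) ?_ _ (fun i => Subgroup.subset_closure (Or.inl ⟨i, rfl⟩))
      (fun k => Subgroup.subset_closure (Or.inr ⟨k, rfl⟩)) (rad_cj C (x0_mem C) j 1)
    rw [zpow_natCast, ← map_pow, muU_val, Units.val_pow_eq_pow_val]
    exact adjoin_norm_one C hj h4 h5 h8)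
  refine ⟨[⁅gX, gZ⁆, ⁅gH ^ m, gZ⁆, cj gX gH 1 * w⁻¹], ⟨le_rfl, ?_⟩, ?_⟩
  · intro r hr
    simp only [List.mem_cons, List.not_mem_nil, or_false] at hr
    rcases hr with rfl | rfl | rfl
    · rw [map_commutatorElement, ev_gX, ev_gZ, x0, z0, uEl_comm, ← uEl_one C]
      exact uEl_ext C _ _ rfl (by simp)
    · rw [map_commutatorElement, map_pow, ev_gH, ev_gZ, commutatorElement_def, ← map_pow, z0, dH_conj,
        mul_inv_eq_one]
      have hn : nu C ((j ^ m : Fˣ) : F) = 1 := by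
        rw [nu_pow C, Units.val_pow_eq_pow_val, ← pow_mul, ← Units.val_pow_eq_pow_val, hm, mul_comm, ← sq_factor,
          pow_card_units C, Units.val_one]
      exact uEl_ext C _ _ (mul_zero _) (by rw [hn, one_mul])
    · rw [map_mul, map_inv, map_cj, ev_gX, ev_gH, e, mul_inv_cancel]
  · intro G _ ψ h hh α f R
    simp only [List.mem_cons, List.not_mem_nil, or_false, forall_eq_or_imp, forall_eq] at h
    obtain ⟨h1, h2, h3⟩ := h
    rw [map_commutatorElement, commutatorElement_eq_one_iff_commute] at h1 h2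
    rw [map_pow] at h2
    rw [map_mul, map_inv, map_cj, mul_inv_eq_one] at h3
    obtain ⟨Z, -, hzk, hab, hle, -⟩ := exists_centre C hj hqa R
    intro k
    refine centralises hh Z hzk hab h1 h2 ?_ _ (Subgroup.subset_closure ⟨k, rfl⟩)
    have := map_mem ψ hw
    rw [hT, image_cj_union, ← h3, show cj (ψ gX) (ψ gH) 1 = ψ gH * ψ gX * (ψ gH)⁻¹ by simp [cj]] at this
    refine Subgroup.closure_mono (Set.union_subset_union_right _ ?_) this
    rintro _ ⟨i, rfl⟩
    exact hzk i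

theorem exists_crels_eight (hqa : q = p ^ a) (h4 : 4 ≤ q) (h8 : q = 8) :
    ∃ L : List (FreeGroup (Fin 3)), Rels C j 3 L ∧
      ∀ {G : Type} [Group G] (ψ : FreeGroup (Fin 3) →* G), (∀ r ∈ L, ψ r = 1) → IsOfFinOrder (ψ gH) →
        ∀ {α : ℤ} {f : ℤ[X]}, ZRel C j p (ψ gZ) (ψ gH) α f → ∀ k, Commute (ψ gX) (cj (ψ gZ) (ψ gH) k) := by
  refine ⟨[⁅gX, cj gZ gH 0⁆, ⁅gX, cj gZ gH 1⁆, ⁅gX, cj gZ gH 2⁆], ⟨le_rfl, ?_⟩, ?_⟩
  · have hk : ∀ k : ℤ, ev C j ⁅gX, cj gZ gH k⁆ = 1 := fun k => by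
      obtain ⟨_, e⟩ := hasC_cj C j k
      rw [map_commutatorElement, map_cj, ev_gX, ev_gZ, ev_gH, x0, e, uEl_comm, ← uEl_one C]
      exact uEl_ext C _ _ rfl (by simp)
    intro r hr
    simp only [List.mem_cons, List.not_mem_nil, or_false] at hr
    rcases hr with rfl | rfl | rfl <;> exact hk _
  · intro G _ ψ h hh α f R
    simp only [List.mem_cons, List.not_mem_nil, or_false, forall_eq_or_imp, forall_eq] at h
    obtain ⟨h0, h1, h2⟩ := h
    rw [map_commutatorElement, commutatorElement_eq_one_iff_commute, map_cj] at h0 h1 h2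
    obtain ⟨Z, -, hzk, hab, hle, X, hX, hXadd, hXk⟩ := exists_centre C hj hqa R
    have hp2 : p = 2 := by
      have hd : p ∣ 2 ^ 3 := by
        rw [show (2 : ℕ) ^ 3 = 8 from rfl, ← h8, hqa]
        exact dvd_pow_self p (by rintro rfl; simp at hqa; omega)
      exact (Nat.prime_dvd_prime_iff_eq Fact.out Nat.prime_two).1 ((Fact.out : p.Prime).dvd_of_dvd_pow hd)
    subst hp2
    haveI := charP_fixed C (p := 2)
    have hX0 : X 0 = 1 := by
      have h' := hXadd 0 0
      rw [add_zero] at h'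
      exact mul_left_cancel (a := X 0) (by rw [h', mul_one])
    let A : AddSubgroup (fixed C.σ) :=
      { carrier := {t | Commute (ψ gX) (X t)}
        zero_mem' := by show Commute _ _; rw [hX0]; exact Commute.one_right _
        add_mem' := fun {s t} hs ht => by show Commute _ _; rw [← hXadd]; exact hs.mul_right ht
        neg_mem' := fun {s} hs => by
          show Commute _ _
          rw [show X (-s) = (X s)⁻¹ from eq_inv_of_mul_eq_one_left (by rw [hXadd, neg_add_cancel, hX0])]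
          exact hs.inv_right }
    set g := gK C j with hg
    have hm : ∀ k : ℕ, Commute (ψ gX) (cj (ψ gZ) (ψ gH) k) → g ^ k ∈ A := fun k hk => by
      show Commute _ _
      rw [← zpow_natCast g k, ← hXk]; exact hk
    have a0 : (1 : fixed C.σ) ∈ A := by simpa using hm 0 h0
    have a1 : g ∈ A := by simpa using hm 1 h1
    have a2 : g ^ 2 ∈ A := hm 2 h2
    have h2z : (2 : fixed C.σ) = 0 := by exact_mod_cast CharP.cast_eq_zero (fixed C.σ) 2
    haveI := Fintype.ofFinite (fixed C.σ)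
    have h7 : g ^ 7 = 1 := by
      have hcard : Fintype.card (fixed C.σ) = 8 := by
        rw [← Nat.card_eq_fintype_card]; exact C.hq.trans h8
      have := FiniteField.pow_card_sub_one_eq_one g (gK_ne C j)
      rwa [hcard] at this
    have hg1 : g - 1 ≠ 0 := sub_ne_zero.2 fun h => gK_ne_one C hj h4 (congrArg Subtype.val h)
    have a3 : g ^ 3 ∈ A := by
      have e : (g - 1) * ((g ^ 3 + g + 1) * (g ^ 3 + g ^ 2 + 1)) = 0 := by
        linear_combination h7 + (g ^ 3 * (g - 1)) * h2z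
      rcases mul_eq_zero.1 ((mul_eq_zero.1 e).resolve_left hg1) with e | e
      · rw [show g ^ 3 = g + 1 by linear_combination e - (g + 1) * h2z]
        exact add_mem a1 a0
      · rw [show g ^ 3 = g ^ 2 + 1 by linear_combination e - (g ^ 2 + 1) * h2z]
        exact add_mem a2 a0
    have hall : ∀ t ∈ AddSubgroup.closure ({1, g, g ^ 2} : Set (fixed C.σ)), t ∈ A := fun t ht =>
      (AddSubgroup.closure_le _).2 (by simp [Set.insert_subset_iff, a0, a1, a2]) ht
    have hpow : ∀ n : ℕ, g ^ n ∈ AddSubgroup.closure ({1, g, g ^ 2} : Set (fixed C.σ)) := by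
      set B := AddSubgroup.closure ({1, g, g ^ 2} : Set (fixed C.σ)) with hB
      have b0 : (1 : fixed C.σ) ∈ B := AddSubgroup.subset_closure (by simp)
      have b1 : g ∈ B := AddSubgroup.subset_closure (by simp)
      have b2 : g ^ 2 ∈ B := AddSubgroup.subset_closure (by simp)
      have b3 : g ^ 3 ∈ B := by
        have e : (g - 1) * ((g ^ 3 + g + 1) * (g ^ 3 + g ^ 2 + 1)) = 0 := by
          linear_combination h7 + (g ^ 3 * (g - 1)) * h2z
        rcases mul_eq_zero.1 ((mul_eq_zero.1 e).resolve_left hg1) with e | e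
        · rw [show g ^ 3 = g + 1 by linear_combination e - (g + 1) * h2z]
          exact add_mem b1 b0
        · rw [show g ^ 3 = g ^ 2 + 1 by linear_combination e - (g ^ 2 + 1) * h2z]
          exact add_mem b2 b0
      intro n
      induction n with
      | zero => simpa using b0
      | succ n ih =>
        rw [pow_succ']
        refine AddSubgroup.closure_induction (p := fun t _ => g * t ∈ B) ?_ (by simp)
          (fun s t _ _ hs ht => by rw [mul_add]; exact add_mem hs ht)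
          (fun s _ hs => by rw [mul_neg]; exact neg_mem hs) ih
        intro t ht
        simp only [Set.mem_insert_iff, Set.mem_singleton_iff] at ht
        rcases ht with rfl | rfl | rfl
        · simpa using b1
        · rw [← pow_two]; exact b2
        · rw [← pow_succ']; exact b3
    intro k
    rw [hXk]
    have h7z : g ^ k = g ^ (k % 7).toNat := by
      rw [← zpow_natCast, Int.toNat_of_nonneg (Int.emod_nonneg _ (by norm_num))]
      conv_lhs => rw [← Int.mul_ediv_add_emod k 7, _root_.zpow_add₀ (gK_ne C j), _root_.zpow_mul,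
        show g ^ (7 : ℤ) = 1 from (zpow_natCast g 7).trans h7, one_zpow, one_mul]
    rw [h7z]
    exact hall _ (hpow _)

omit hj in
theorem mk_rels (h : ∀ r ∈ ([] : List (FreeGroup (Fin 3))), ev C j r = 1) : Rels C j 0 [] := ⟨le_rfl, h⟩

theorem qrel_of (hqa : q = p ^ a) (h4 : 4 ≤ q) {β : ℤ}
    (hB : Algebra.adjoin ℤ {((muU C j ^ β : Fˣ) : F)} = (⊤ : Subalgebra ℤ F)) :
    ∃ (L : List (FreeGroup (Fin 3))) (f gu : ℤ[X]), Rels C j 3 L ∧
      ∀ {G : Type} [Group G] (ψ : FreeGroup (Fin 3) →* G), (∀ r ∈ L, ψ r = 1) →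
        (∀ i : ℤ, ⁅ψ gX, cj (ψ gX) (ψ gH) (i * β)⁆ ∈ cjs (ψ gZ) (ψ gH)) →
        QRel C j p (ψ gX) (ψ gH) (cjs (ψ gZ) (ψ gH)) β f gu := by
  obtain ⟨f, hf0, hf⟩ := exists_minimal_lift p ((muU C j ^ β : Fˣ) : F)
  obtain ⟨gu, hgu⟩ : ∃ P : ℤ[X], aeval ((muU C j ^ β : Fˣ) : F) P = mu C (j : F) := by
    have ht : mu C (j : F) ∈ Algebra.adjoin ℤ {((muU C j ^ β : Fˣ) : F)} := hB ▸ Algebra.mem_top
    rwa [Algebra.adjoin_singleton_eq_range_aeval] at ht
  obtain ⟨r1, e1, k1⟩ := exists_zrel C (gX ^ p) (j := j) (by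
    rw [map_pow, ev_gX]
    refine zc_of_hasA C hj h4 ?_
    have := hasA_pow C (hasA_x0 C) p
    rwa [CharP.cast_eq_zero, zero_mul] at this)
  obtain ⟨r2, e2, k2⟩ := exists_zrel C (word gX gH β f) (j := j) (by
    rw [map_word, ev_gX, ev_gH]
    refine zc_of_hasA C hj h4 ?_
    have := hasA_word C j β f
    rwa [hf0] at this)
  obtain ⟨r3, e3, k3⟩ := exists_zrel C (cj gX gH 1 * (word gX gH β gu)⁻¹) (j := j) (by
    rw [map_mul, map_inv, map_cj, map_word, ev_gX, ev_gH]
    refine zc_of_eq C hj h4 (a := mu C (j : F)) ?_ (hgu ▸ hasA_word C j β gu)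
    have := hasA_cj C j 1
    rwa [zpow_one] at this)
  refine ⟨[r1, r2, r3], f, gu, ⟨le_rfl, fun r hr => ?_⟩, fun ψ h hc => ?_⟩
  · simp only [List.mem_cons, List.not_mem_nil, or_false] at hr
    rcases hr with rfl | rfl | rfl <;> assumption
  · simp only [List.mem_cons, List.not_mem_nil, or_false, forall_eq_or_imp, forall_eq] at h
    refine ⟨hB, hgu, hf, hc, ?_, ?_, ?_⟩
    · simpa using k1 ψ h.1
    · simpa [map_word] using k2 ψ h.2.1
    · simpa [map_word, map_cj, cj] using k3 ψ h.2.2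

theorem exists_qrels (hqa : q = p ^ a) (h4 : 4 ≤ q) (h5 : q ≠ 5) (h8 : q ≠ 8) :
    ∃ (L : List (FreeGroup (Fin 3))) (β : ℤ) (f gu : ℤ[X]), Rels C j 5 L ∧
      ∀ {G : Type} [Group G] (ψ : FreeGroup (Fin 3) →* G), (∀ r ∈ L, ψ r = 1) → IsOfFinOrder (ψ gH) →
        (∀ k, Commute (ψ gX) (cj (ψ gZ) (ψ gH) k)) →
        QRel C j p (ψ gX) (ψ gH) (cjs (ψ gZ) (ψ gH)) β f gu := by
  obtain ⟨α, β, hB, hαβ⟩ := exists_trinomial C hj h4 h5 h8
  obtain ⟨L, f, gu, hL, kL⟩ := qrel_of (p := p) C hj hqa h4 hB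
  obtain ⟨r1, e1, k1⟩ := exists_zrel C ⁅gX, cj gX gH β⁆ (j := j) (by
    rw [map_commutatorElement, map_cj, ev_gX, ev_gH]
    exact zc_of_hasA C hj h4 (hasA_comm C (hasA_x0 C) (hasA_cj' C j β)))
  obtain ⟨r2, e2, k2⟩ := exists_zrel C (cj gX gH α * (gX * cj gX gH β)⁻¹) (j := j) (by
    rw [map_mul, map_inv, map_mul, map_cj, map_cj, ev_gX, ev_gH]
    refine zc_of_eq C hj h4 (hasA_cj' C j α) ?_
    rw [hαβ]
    exact hasA_mul C (hasA_x0 C) (hasA_cj' C j β))
  refine ⟨r1 :: r2 :: L, β, f, gu, ⟨by simp only [List.length_cons]; have := hL.1; omega, ?_⟩, ?_⟩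
  · intro r hr
    simp only [List.mem_cons] at hr
    rcases hr with rfl | rfl | hr
    · exact e1
    · exact e2
    · exact hL.2 r hr
  · intro G _ ψ h hh hxz
    simp only [List.mem_cons, forall_eq_or_imp] at h
    refine kL ψ h.2.2 fun i => ?_
    have h1 := k1 ψ h.1
    have h2 := k2 ψ h.2.1
    rw [map_commutatorElement, map_cj] at h1
    rw [map_mul, map_inv, map_mul, map_cj, map_cj] at h2
    haveI := exists_quot (gZ_mem ψ) hxz
    set S := Subgroup.closure ({ψ gX, ψ gH} : Set G) with hS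
    set mk := QuotientGroup.mk' ((cjs (ψ gZ) (ψ gH)).subgroupOf S)
    let xS : S := ⟨ψ gX, Subgroup.subset_closure (by simp)⟩
    let hS' : S := ⟨ψ gH, Subgroup.subset_closure (by simp)⟩
    have hc : ∀ k, (cj xS hS' k : S).1 = cj (ψ gX) (ψ gH) k := fun k => map_cj S.subtype _ _ k
    have hmk : ∀ g : S, mk g = 1 ↔ (g : G) ∈ cjs (ψ gZ) (ψ gH) := fun g => by
      rw [QuotientGroup.mk'_apply, QuotientGroup.eq_one_iff, Subgroup.mem_subgroupOf]
    have hiff : ∀ k, Commute (mk xS) (cj (mk xS) (mk hS') k) ↔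
        ⁅ψ gX, cj (ψ gX) (ψ gH) k⁆ ∈ cjs (ψ gZ) (ψ gH) := fun k => by
      rw [← map_cj, ← commutatorElement_eq_one_iff_commute, ← map_commutatorElement, hmk,
        show ((⁅xS, cj xS hS' k⁆ : S) : G) = ⁅ψ gX, cj (ψ gX) (ψ gH) k⁆ by
          rw [← hc]; exact map_commutatorElement S.subtype _ _]
    refine (hiff _).1 (commute_all_of_trinomial ((hiff β).2 h1) (α := α) ?_ i)
    rw [← map_cj, ← map_cj, ← map_mul, ← mul_inv_eq_one, ← map_inv, ← map_mul, hmk]
    simp only [Subgroup.coe_mul, InvMemClass.coe_inv, hc]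
    exact h2

omit hj in
/-- Few conjugates commuting in pairs and spanning the next one commute with all. -/
theorem comm_few {G : Type*} [Group G] {x h : G} {m : ℕ} (hm : 0 < m) (hh : IsOfFinOrder h)
    (hc : ∀ i : ℕ, i < m → Commute x (cj x h i))
    (hs : cj x h (m : ℤ) ∈ Subgroup.closure ((fun i : ℕ => cj x h i) '' Set.Iio m)) (i : ℤ) :
    Commute x (cj x h i) := by
  set V := Subgroup.closure ((fun i : ℕ => cj x h i) '' Set.Iio m) with hV
  have hstep : ∀ v ∈ V, h ^ (1 : ℤ) * v * (h ^ (1 : ℤ))⁻¹ ∈ V := by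
    intro v hv
    refine (Subgroup.closure_le (V.comap (MulAut.conj (h ^ (1 : ℤ))).toMonoidHom)).2 ?_ hv
    rintro _ ⟨k, hk, rfl⟩
    change h ^ (1 : ℤ) * cj x h k * (h ^ (1 : ℤ))⁻¹ ∈ V
    rw [cj_shift]
    rcases Nat.lt_or_ge (k + 1) m with h6 | h6
    · exact Subgroup.subset_closure ⟨k + 1, h6, by push_cast; rw [add_comm]⟩
    · obtain rfl : m = k + 1 := by simp only [Set.mem_Iio] at hk; omega
      rw [add_comm]
      exact_mod_cast hs
  have hnat : ∀ n : ℕ, cj x h n ∈ V := by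
    intro n
    induction n with
    | zero => exact Subgroup.subset_closure ⟨0, hm, rfl⟩
    | succ n ih =>
      have := hstep _ ih
      rwa [cj_shift, add_comm] at this
  have hcen : V ≤ Subgroup.centralizer {x} := by
    rw [hV, Subgroup.closure_le]
    rintro _ ⟨k, hk, rfl⟩
    exact Subgroup.mem_centralizer_singleton_iff.2 (hc k hk).eq.symm
  have hpos : (orderOf h : ℤ) ≠ 0 := by exact_mod_cast hh.orderOf_pos.ne'
  have e : cj x h i = cj x h ((i % (orderOf h : ℤ)).toNat : ℤ) := by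
    rw [Int.toNat_of_nonneg (Int.emod_nonneg _ hpos)]
    simp only [cj, zpow_mod_orderOf]
  rw [e]
  exact (Subgroup.mem_centralizer_singleton_iff.1 (hcen (hnat _))).symm

theorem exists_qrels_span (hqa : q = p ^ a) (h4 : 4 ≤ q) {m : ℕ} (hm2 : 2 ≤ m) (hm : q ^ 2 = p ^ m) :
    ∃ (L : List (FreeGroup (Fin 3))) (β : ℤ) (f gu : ℤ[X]), Rels C j (m + 3) L ∧
      ∀ {G : Type} [Group G] (ψ : FreeGroup (Fin 3) →* G), (∀ r ∈ L, ψ r = 1) → IsOfFinOrder (ψ gH) →
        (∀ k, Commute (ψ gX) (cj (ψ gZ) (ψ gH) k)) →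
        QRel C j p (ψ gX) (ψ gH) (cjs (ψ gZ) (ψ gH)) β f gu := by
  have hB : Algebra.adjoin ℤ {((muU C j ^ (1 : ℤ) : Fˣ) : F)} = (⊤ : Subalgebra ℤ F) := by
    rw [zpow_one, muU_val]; exact adjoin_mu C hj h4
  obtain ⟨L, f, gu, hL, kL⟩ := qrel_of (p := p) C hj hqa h4 hB
  choose r er kr using fun i : ℕ => exists_zrel C ⁅gX, cj gX gH ((i : ℤ) + 1)⁆ (j := j) (by
    rw [map_commutatorElement, map_cj, ev_gX, ev_gH]
    exact zc_of_hasA C hj h4 (hasA_comm C (hasA_x0 C) (hasA_cj C j _)))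
  -- the last conjugate
  set T : Set (FreeGroup (Fin 3)) := (fun i : ℕ => cj gX gH i) '' Set.Iio m with hT
  obtain ⟨w, hw, hwA⟩ : ∃ w ∈ Subgroup.closure T, HasA C (ev C j w) (mu C (j : F) ^ m) := by
    let A : AddSubgroup F :=
      { carrier := {t | ∃ w ∈ Subgroup.closure T, HasA C (ev C j w) t}
        zero_mem' := ⟨1, one_mem _, by rw [map_one]; exact hasA_one C⟩
        add_mem' := by
          rintro s t ⟨u, hu, hu'⟩ ⟨v, hv, hv'⟩
          exact ⟨u * v, mul_mem hu hv, by rw [map_mul]; exact hasA_mul C hu' hv'⟩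
        neg_mem' := by
          rintro s ⟨u, hu, hu'⟩
          exact ⟨u⁻¹, inv_mem hu, by rw [map_inv]; exact hasA_inv C hu'⟩ }
    have hi : ∀ i : ℕ, i < m → mu C (j : F) ^ i ∈ A := fun i hi =>
      ⟨cj gX gH i, Subgroup.subset_closure ⟨i, hi, rfl⟩, by
        rw [map_cj, ev_gX, ev_gH]
        have := hasA_cj_mul C j 1 i
        rwa [mul_one, zpow_one, muU_val] at this⟩
    let _ : Algebra (ZMod p) F := ZMod.algebra F p
    have hfin : Module.finrank (ZMod p) F = m := by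
      have := Module.natCard_eq_pow_finrank (K := ZMod p) (V := F)
      rw [card_F C, Nat.card_zmod, hm] at this
      exact (Nat.pow_right_injective (Fact.out : p.Prime).two_le this).symm
    set B := mu C (j : F)
    have hint : IsIntegral (ZMod p) B := IsIntegral.of_finite _ _
    set P := minpoly (ZMod p) B
    have hdeg : ((Polynomial.X : (ZMod p)[X]) ^ m %ₘ P).natDegree < m :=
      (natDegree_modByMonic_lt _ (minpoly.monic hint) (minpoly.ne_one _ _)).trans_le
        ((minpoly.natDegree_le B).trans hfin.le)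
    have e : aeval B ((Polynomial.X : (ZMod p)[X]) ^ m %ₘ P) = B ^ m := by
      rw [aeval_modByMonic_eq_self_of_root (minpoly.aeval _ _), map_pow, aeval_X]
    show B ^ m ∈ A
    rw [← e, aeval_eq_sum_range' hdeg]
    refine sum_mem fun i hi' => ?_
    haveI : NeZero p := ⟨(Fact.out : p.Prime).ne_zero⟩
    rw [← ZMod.natCast_zmod_val (((Polynomial.X : (ZMod p)[X]) ^ m %ₘ P).coeff i), Nat.cast_smul_eq_nsmul]
    exact nsmul_mem (hi i (Finset.mem_range.1 hi')) _
  obtain ⟨r6, e6, k6⟩ := exists_zrel C (cj gX gH (m : ℤ) * w⁻¹) (j := j) (by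
    rw [map_mul, map_inv, map_cj, ev_gX, ev_gH]
    refine zc_of_eq C hj h4 ?_ hwA
    have := hasA_cj_mul C j 1 m
    rwa [mul_one, zpow_one, muU_val] at this)
  refine ⟨(List.range (m - 1)).map r ++ r6 :: L, 1, f, gu, ⟨by simp; have := hL.1; omega, ?_⟩, ?_⟩
  · intro s hs
    simp only [List.mem_append, List.mem_map, List.mem_cons] at hs
    rcases hs with ⟨i, -, rfl⟩ | rfl | hs
    · exact er i
    · exact e6
    · exact hL.2 s hs
  · intro G _ ψ h hh hxz
    simp only [List.mem_append, List.mem_map, List.mem_range, List.mem_cons] at h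
    refine kL ψ (fun s hs => h s (Or.inr (Or.inr hs))) fun i => ?_
    have h1 : ∀ i : ℕ, i < m - 1 → ψ ⁅gX, cj gX gH ((i : ℤ) + 1)⁆ ∈ cjs (ψ gZ) (ψ gH) := fun i hi =>
      kr i ψ (h _ (Or.inl ⟨i, hi, rfl⟩))
    have h2 := k6 ψ (h r6 (Or.inr (Or.inl rfl)))
    rw [map_mul, map_inv, map_cj] at h2
    haveI := exists_quot (gZ_mem ψ) hxz
    set S := Subgroup.closure ({ψ gX, ψ gH} : Set G) with hS
    set mk := QuotientGroup.mk' ((cjs (ψ gZ) (ψ gH)).subgroupOf S)
    let xS : S := ⟨ψ gX, Subgroup.subset_closure (by simp)⟩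
    let hS' : S := ⟨ψ gH, Subgroup.subset_closure (by simp)⟩
    have hc : ∀ k, (cj xS hS' k : S).1 = cj (ψ gX) (ψ gH) k := fun k => map_cj S.subtype _ _ k
    have hmk : ∀ g : S, mk g = 1 ↔ (g : G) ∈ cjs (ψ gZ) (ψ gH) := fun g => by
      rw [QuotientGroup.mk'_apply, QuotientGroup.eq_one_iff, Subgroup.mem_subgroupOf]
    have hiff : ∀ k, Commute (mk xS) (cj (mk xS) (mk hS') k) ↔
        ⁅ψ gX, cj (ψ gX) (ψ gH) k⁆ ∈ cjs (ψ gZ) (ψ gH) := fun k => by
      rw [← map_cj, ← commutatorElement_eq_one_iff_commute, ← map_commutatorElement, hmk,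
        show ((⁅xS, cj xS hS' k⁆ : S) : G) = ⁅ψ gX, cj (ψ gX) (ψ gH) k⁆ by
          rw [← hc]; exact map_commutatorElement S.subtype _ _]
    refine (hiff _).1 (comm_few (G := _) (show 0 < m by omega) (mk.isOfFinOrder ((Submonoid.isOfFinOrder_coe (x := hS')).1 hh)) ?_ ?_ (i * 1))
    · intro k hk
      rcases k with _ | k
      · rw [Nat.cast_zero, cj_zero]
      · refine (hiff _).2 ?_
        have := h1 k (by omega)
        rwa [map_commutatorElement, map_cj, ← Nat.cast_succ] at this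
    · -- lift the word
      have hwψ := map_mem ψ hw
      rw [hT, image_cj_Iio] at hwψ
      obtain ⟨v, hv, hv'⟩ := exists_pre S.subtype ((fun i : ℕ => cj xS hS' i) '' Set.Iio m) (s := ψ w) (by
        rw [Set.image_image]
        simpa only [Subgroup.coe_subtype, hc] using hwψ)
      have hv1 : mk (cj xS hS' (m : ℤ)) = mk v := by
        rw [← mul_inv_eq_one, ← map_inv, ← map_mul, hmk]
        simp only [Subgroup.coe_mul, InvMemClass.coe_inv, hc]
        rw [show (v : G) = ψ w from hv']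
        exact h2
      rw [← map_cj, hv1]
      have := map_mem mk hv
      simpa only [Set.image_image, map_cj] using this

theorem exists_crels_prime (hqa : q = p ^ a) (h4 : 4 ≤ q) (hqp : q = p) :
    ∃ L : List (FreeGroup (Fin 3)), Rels C j 1 L ∧
      ∀ {G : Type} [Group G] (ψ : FreeGroup (Fin 3) →* G), (∀ r ∈ L, ψ r = 1) → IsOfFinOrder (ψ gH) →
        ∀ {α : ℤ} {f : ℤ[X]}, ZRel C j p (ψ gZ) (ψ gH) α f → ∀ k, Commute (ψ gX) (cj (ψ gZ) (ψ gH) k) := by
  refine ⟨[⁅gX, gZ⁆], ⟨le_rfl, ?_⟩, ?_⟩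
  · intro r hr
    simp only [List.mem_cons, List.not_mem_nil, or_false] at hr
    subst hr
    rw [map_commutatorElement, ev_gX, ev_gZ, x0, z0, uEl_comm, ← uEl_one C]
    exact uEl_ext C _ _ rfl (by simp)
  · intro G _ ψ h hh α f R
    simp only [List.mem_cons, List.not_mem_nil, or_false, forall_eq] at h
    rw [map_commutatorElement, commutatorElement_eq_one_iff_commute] at h
    obtain ⟨Z, -, -, -, -, X, -, hXadd, hXk⟩ := exists_centre C hj hqa R
    haveI := charP_fixed C (p := p)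
    haveI := Fintype.ofFinite (fixed C.σ)
    have hX1 : X 1 = ψ gZ := by
      have := (hXk 0).symm
      rwa [zpow_zero, cj_zero] at this
    have hn : ∀ n : ℕ, Commute (ψ gX) (X (n : fixed C.σ)) := by
      intro n
      induction n with
      | zero =>
        have h' := hXadd 0 0
        rw [add_zero] at h'
        rw [Nat.cast_zero, show X 0 = 1 from mul_left_cancel (a := X 0) (by rw [h', mul_one])]
        exact Commute.one_right _
      | succ n ih => rw [Nat.cast_succ, ← hXadd, hX1]; exact ih.mul_right h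
    intro k
    haveI : NeZero p := ⟨(Fact.out : p.Prime).ne_zero⟩
    have hb := ZMod.castHom_bijective (R := fixed C.σ) (n := p)
      (by rw [← Nat.card_eq_fintype_card]; exact C.hq.trans hqp)
    obtain ⟨c, hc⟩ := hb.2 (gK C j ^ k)
    rw [hXk, ← hc, ← ZMod.natCast_zmod_val c, map_natCast]
    exact hn _

/-- The relations of the stabiliser. -/
theorem exists_root_rels (hqa : q = p ^ a) (h4 : 4 ≤ q) :
    ∃ L : List (FreeGroup (Fin 3)), Rels C j (if q = 8 then 17 else 13) L ∧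
      ∀ {G : Type} [Group G] (ψ : FreeGroup (Fin 3) →* G) (π : G →* ↥(Cfsg.SU 3 F q)),
        (∀ g, π (ψ g) = ev C j g) → (∀ r ∈ L, ψ r = 1) →
        (Subgroup.closure {ψ gX, ψ gH}).map π = borel C ∧
          ∀ g ∈ Subgroup.closure ({ψ gX, ψ gH} : Set G), π g = 1 → g = 1 := by
  obtain ⟨Lz, α, f, hz, kz⟩ := exists_zrels (p := p) C hj h4
  obtain ⟨Lc, Lq, β, fq, gu, hlen, hc, hq', kc, kq⟩ : ∃ (Lc Lq : List (FreeGroup (Fin 3))) (β : ℤ) (fq gu : ℤ[X]),
      (Lc.length + Lq.length + 5 ≤ if q = 8 then 17 else 13) ∧ (∀ r ∈ Lc, ev C j r = 1) ∧ (∀ r ∈ Lq, ev C j r = 1) ∧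
      (∀ {G : Type} [Group G] (ψ : FreeGroup (Fin 3) →* G), (∀ r ∈ Lc, ψ r = 1) → IsOfFinOrder (ψ gH) →
        ∀ {α : ℤ} {f : ℤ[X]}, ZRel C j p (ψ gZ) (ψ gH) α f → ∀ k, Commute (ψ gX) (cj (ψ gZ) (ψ gH) k)) ∧
      ∀ {G : Type} [Group G] (ψ : FreeGroup (Fin 3) →* G), (∀ r ∈ Lq, ψ r = 1) → IsOfFinOrder (ψ gH) →
        (∀ k, Commute (ψ gX) (cj (ψ gZ) (ψ gH) k)) →
        QRel C j p (ψ gX) (ψ gH) (cjs (ψ gZ) (ψ gH)) β fq gu := by
    by_cases h8 : q = 8
    · obtain ⟨Lc, hc, kc⟩ := exists_crels_eight (p := p) C hj hqa h4 h8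
      have h64 : q ^ 2 = p ^ 6 := by
        have hd : p ∣ 2 ^ 3 := by
          rw [show (2 : ℕ) ^ 3 = 8 from rfl, ← h8, hqa]
          exact dvd_pow_self p (by rintro rfl; simp at hqa; omega)
        rw [h8, (Nat.prime_dvd_prime_iff_eq Fact.out Nat.prime_two).1 ((Fact.out : p.Prime).dvd_of_dvd_pow hd)]
        norm_num
      obtain ⟨Lq, β, fq, gu, hq', kq⟩ := exists_qrels_span (p := p) C hj hqa h4 (by norm_num) h64
      exact ⟨Lc, Lq, β, fq, gu, by rw [if_pos h8]; have := hc.1; have := hq'.1; omega, hc.2, hq'.2, kc, kq⟩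
    by_cases h5 : q = 5
    · have h5p : q = p := by
        have hd : p ∣ 5 := by
          rw [← h5, hqa]
          exact dvd_pow_self p (by rintro rfl; simp at hqa; omega)
        rw [h5, (Nat.prime_dvd_prime_iff_eq Fact.out Nat.prime_five).1 hd]
      obtain ⟨Lc, hc, kc⟩ := exists_crels_prime (p := p) C hj hqa h4 h5p
      obtain ⟨Lq, β, fq, gu, hq', kq⟩ := exists_qrels_span (p := p) C hj hqa h4 le_rfl (by rw [h5p])
      exact ⟨Lc, Lq, β, fq, gu, by rw [if_neg h8]; have := hc.1; have := hq'.1; omega, hc.2, hq'.2, kc, kq⟩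
    · obtain ⟨Lc, hc, kc⟩ := exists_crels (p := p) C hj hqa h4 h5 h8
      obtain ⟨Lq, β, fq, gu, hq', kq⟩ := exists_qrels (p := p) C hj hqa h4 h5 h8
      exact ⟨Lc, Lq, β, fq, gu, by rw [if_neg h8]; have := hc.1; have := hq'.1; omega, hc.2, hq'.2, kc, kq⟩
  refine ⟨gH ^ (q ^ 2 - 1) :: (Lz ++ (Lc ++ Lq)), ⟨?_, ?_⟩, ?_⟩
  · have := hz.1
    simp only [List.length_cons, List.length_append]
    omega
  · intro r hr
    simp only [List.mem_cons, List.mem_append] at hr
    rcases hr with rfl | hr | hr | hr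
    · rw [map_pow, ev_gH, ← map_pow, pow_card_units C, map_one]
    · exact hz.2 r hr
    · exact hc r hr
    · exact hq' r hr
  · intro G _ ψ π hπ h
    simp only [List.mem_cons, List.mem_append] at h
    have hhn : (ψ gH) ^ (q ^ 2 - 1) = 1 := by rw [← map_pow]; exact h _ (Or.inl rfl)
    have hh : IsOfFinOrder (ψ gH) := isOfFinOrder_iff_pow_eq_one.2
      ⟨q ^ 2 - 1, by have := Nat.le_self_pow (show 2 ≠ 0 by norm_num) q; omega, hhn⟩
    have RZ := kz ψ fun r hr => h r (Or.inr (Or.inl hr))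
    have hxz := kc ψ (fun r hr => h r (Or.inr (Or.inr (Or.inl hr)))) hh RZ
    have RQ := kq ψ (fun r hr => h r (Or.inr (Or.inr (Or.inr hr)))) hh hxz
    obtain ⟨Z, -, hzk, -, hle, X, hX, -, -⟩ := exists_centre C hj hqa RZ
    obtain rfl : Z = cjs (ψ gZ) (ψ gH) :=
      le_antisymm hle ((Subgroup.closure_le _).2 (by rintro _ ⟨k, rfl⟩; exact hzk k))
    have hcx : ∀ a ∈ cjs (ψ gZ) (ψ gH), Commute (ψ gX) a := fun a ha =>
      (Subgroup.mem_centralizer_singleton_iff.1 ((Subgroup.closure_le (Subgroup.centralizer {ψ gX})).2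
        (by rintro _ ⟨k, rfl⟩; exact Subgroup.mem_centralizer_singleton_iff.2 (hxz k).eq.symm) ha)).symm
    obtain ⟨U, hUx, hUZ, hUS, hUn, s, hs⟩ := card_root C hj RQ
      (cjs_le (gZ_mem ψ) (Subgroup.subset_closure (by simp))) (fun a ha k => cjs_cj _ _ ha k) hcx hX
    exact borel_inj C hj h4 π (by rw [hπ, ev_gX]) (by rw [hπ, ev_gZ]) (by rw [hπ, ev_gH]) hhn hUx
      (hUZ (self_mem_cjs _ _)) hUS hUn hs

end Cfsg.Agent.SU3Pres
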