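import Cfsg.Agent.Lib.SU3Pres.Eval

/-!
The generators as words, and the quotient by the centre of the root group.
-/

set_option autoImplicit false
set_option linter.unusedSectionVars false
set_option linter.style.haveILetI false

namespace Cfsg.Agent.SU3Pres

open Hermitian PSU3Index SL2Pres
open scoped commutatorElement

/-- The first generator. -/
def gX : FreeGroup (Fin 3) := FreeGroup.of 0
/-- The second generator. -/
def gH : FreeGroup (Fin 3) := FreeGroup.of 1
/-- The third generator. -/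
def gW : FreeGroup (Fin 3) := FreeGroup.of 2
/-- The word of the central root element. -/
def gZ : FreeGroup (Fin 3) := ⁅gX, gH * gX * gH⁻¹⁆

variable {F : Type*} [Field F] [Fintype F] {q : ℕ} (C : Ctx F q)

/-- Evaluation of words. -/
noncomputable def ev (j : Fˣ) : FreeGroup (Fin 3) →* ↥(Cfsg.SU 3 F q) :=
  FreeGroup.lift ![x0 C, dH C j, wEl C]

theorem ev_gX (j : Fˣ) : ev C j gX = x0 C := by rw [ev, gX, FreeGroup.lift_apply_of]; rfl

theorem ev_gH (j : Fˣ) : ev C j gH = dH C j := by rw [ev, gH, FreeGroup.lift_apply_of]; rfl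

theorem ev_gW (j : Fˣ) : ev C j gW = wEl C := by rw [ev, gW, FreeGroup.lift_apply_of]; rfl

theorem ev_gZ (j : Fˣ) : ev C j gZ = z0 C j := by
  rw [gZ, map_commutatorElement, map_mul, map_mul, map_inv, ev_gX, ev_gH, z0_comm]

theorem map_gZ {G : Type*} [Group G] (ψ : FreeGroup (Fin 3) →* G) :
    ψ gZ = ⁅ψ gX, ψ gH * ψ gX * (ψ gH)⁻¹⁆ := by rw [gZ, map_commutatorElement, map_mul, map_mul, map_inv]

theorem gZ_mem {G : Type*} [Group G] (ψ : FreeGroup (Fin 3) →* G) :
    ψ gZ ∈ Subgroup.closure ({ψ gX, ψ gH} : Set G) := by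
  have hx : ψ gX ∈ Subgroup.closure ({ψ gX, ψ gH} : Set G) := Subgroup.subset_closure (by simp)
  have hh : ψ gH ∈ Subgroup.closure ({ψ gX, ψ gH} : Set G) := Subgroup.subset_closure (by simp)
  rw [map_gZ, commutatorElement_def]
  have h2 := mul_mem (mul_mem hh hx) (inv_mem hh)
  exact mul_mem (mul_mem (mul_mem hx h2) (inv_mem hx)) (inv_mem h2)

theorem cjs_le {G : Type*} [Group G] {z h : G} {S : Subgroup G} (hz : z ∈ S) (hh : h ∈ S) : cjs z h ≤ S :=
  (Subgroup.closure_le _).2 (by
    rintro _ ⟨k, rfl⟩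
    exact mul_mem (mul_mem (zpow_mem hh k) hz) (inv_mem (zpow_mem hh k)))

theorem map_cjs {G : Type*} [Group G] (ψ : FreeGroup (Fin 3) →* G) {w : FreeGroup (Fin 3)}
    (hw : w ∈ cjs gZ gH) : ψ w ∈ cjs (ψ gZ) (ψ gH) := by
  have := map_mem ψ hw
  rwa [image_cj ψ gZ gH (fun k => k)] at this

/-- A relator expressing that a word lies in the centre of the root group. -/
theorem exists_zrel {j : Fˣ} (r : FreeGroup (Fin 3)) (hr : ev C j r ∈ cjs (z0 C j) (dH C j)) :
    ∃ r', ev C j r' = 1 ∧ ∀ {G : Type} [Group G] (ψ : FreeGroup (Fin 3) →* G),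
      ψ r' = 1 → ψ r ∈ cjs (ψ gZ) (ψ gH) := by
  obtain ⟨w, hw, e⟩ := exists_pre (ev C j) (Set.range fun k : ℤ => cj gZ gH k) (s := ev C j r) (by
    rwa [image_cj (ev C j) gZ gH (fun k => k), ev_gZ, ev_gH])
  refine ⟨r * w⁻¹, by rw [map_mul, map_inv, e, mul_inv_cancel], fun ψ h => ?_⟩
  rw [map_mul, map_inv, mul_inv_eq_one] at h
  rw [h]
  exact map_cjs ψ hw

/-- The quotient of the group generated by two elements by the conjugates of a centralised element. -/
theorem exists_quot {G : Type*} [Group G] {x z h : G} (hzS : z ∈ Subgroup.closure {x, h})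
    (hxz : ∀ k, Commute x (cj z h k)) :
    ((cjs z h).subgroupOf (Subgroup.closure {x, h})).Normal := by
  have hle : Subgroup.closure ({x, h} : Set G) ≤ Subgroup.normalizer (cjs z h : Set G) := by
    have hcx : ∀ a ∈ cjs z h, Commute x a := fun a ha =>
      (Subgroup.mem_centralizer_singleton_iff.1 ((Subgroup.closure_le (Subgroup.centralizer {x})).2
        (by rintro _ ⟨k, rfl⟩; exact Subgroup.mem_centralizer_singleton_iff.2 (hxz k).eq.symm) ha)).symm
    rw [Subgroup.closure_le]
    rintro g hg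
    simp only [Set.mem_insert_iff, Set.mem_singleton_iff] at hg
    rcases hg with rfl | rfl
    · refine Subgroup.mem_normalizer_iff.2 fun a => ⟨fun ha => by rwa [(hcx a ha).eq, mul_inv_cancel_right],
        fun ha => ?_⟩
      have e : g * a = g * a * g⁻¹ * g := by group
      rw [← (hcx _ ha).eq] at e
      exact mul_left_cancel e ▸ ha
    · refine Subgroup.mem_normalizer_iff.2 fun a => ⟨fun ha => ?_, fun ha => ?_⟩
      · simpa [cj] using cjs_cj z g ha 1
      · have := cjs_cj z g ha (-1)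
        rwa [cj, zpow_neg_one, show g⁻¹ * (g * a * g⁻¹) * g⁻¹⁻¹ = a by group] at this
  exact ⟨fun a ha g => (Subgroup.mem_normalizer_iff.1 (hle g.2) (a : G)).1 ha⟩

end Cfsg.Agent.SU3Pres
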